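import Mathlib
import Cfsg.Agent.Classical.SLGen

/-! Recognition of `PSL_n(F)` from a family of "transvection groups" acting on the points of a coordinatised
projective space (`ONan.final`). -/

set_option autoImplicit false

namespace Cfsg.Agent.ONan

open Matrix

/-- `z` is a linear combination of `x` and `y`. -/
def Lin {X V : Type*} (F : Type*) [Field F] [AddCommGroup V] [Module F V] (vec : X → V) (x y z : X) : Prop :=
  ∃ α β : F, vec z = α • vec x + β • vec y

section
variable {X V F : Type*} [Field F] [AddCommGroup V] [Module F V] {vec : X → V}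

theorem tv_form (v0 : ∀ x, vec x ≠ 0) (inj : ∀ x y (c : F), vec x = c • vec y → x = y)
    (surj : ∀ v : V, v ≠ 0 → ∃ x, ∃ c : F, v = c • vec x) {g : X → X} {x : X} {f : V →ₗ[F] F}
    (hg : ∀ a b c, a ≠ b → Lin F vec a b c → Lin F vec (g a) (g b) (g c)) (hf : ∀ y, f (vec y) = 0 ↔ g y = y)
    (gi : Function.Injective g) (hx : ∀ y, Lin F vec x y (g y)) (fx : f (vec x) = 0)
    (hz : ∃ z, f (vec z) = 0 ∧ z ≠ x) : ∃ c : F, ∀ y, ∃ d : F, vec (g y) = d • (vec y + (c * f (vec y)) • vec x) := by
  have h1 : ∀ y, f (vec y) ≠ 0 → ∃ c d : F, d ≠ 0 ∧ vec (g y) = d • (vec y + (c * f (vec y)) • vec x) := by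
    intro y hy
    obtain ⟨α, β, e⟩ := hx y
    have b0 : β ≠ 0 := by
      rintro rfl
      have := inj _ _ α (by simpa using e)
      exact hy (by rw [gi (this.trans ((hf x).1 fx).symm), fx])
    exact ⟨α / β / f (vec y), β, b0, by
      rw [e, div_mul_cancel₀ _ hy, smul_add, smul_smul, mul_div_cancel₀ _ b0, add_comm]⟩
  choose! c d hd hc using h1
  have h2 : ∀ y w, f (vec y) ≠ 0 → f (vec w) ≠ 0 → (∀ a : F, f (vec w) • vec y - f (vec y) • vec w ≠ a • vec x) →
      c y = c w := by
    intro y w hy hw hn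
    obtain ⟨u, e, hu⟩ := surj _ (by simpa using hn 0)
    have e0 : e ≠ 0 := by rintro rfl; exact hn 0 (by simpa using hu)
    have fu : f (vec u) = 0 := by
      have := congrArg f hu
      simp only [map_sub, map_smul, smul_eq_mul, mul_comm (f (vec w)), sub_self] at this
      exact (mul_eq_zero.1 this.symm).resolve_left e0
    obtain ⟨α, β, h3⟩ := hg y u w (fun e => hy (e ▸ fu)) ⟨f (vec w) / f (vec y), - e / f (vec y), by
      rw [div_eq_inv_mul, div_eq_inv_mul, ← smul_smul, ← smul_smul, ← smul_add, neg_smul, ← hu, neg_sub,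
        add_sub_cancel, smul_smul, inv_mul_cancel₀ hy, one_smul]⟩
    rw [(hf u).1 fu, hc y hy, hc w hw] at h3
    have h4 := congrArg f h3
    simp only [map_add, map_smul, fx, fu, smul_eq_mul, mul_zero, add_zero] at h4
    by_contra ne
    have h5 : (d w + β * f (vec y) / e) • (f (vec w) • vec y - f (vec y) • vec w) =
        (d w * f (vec y) * f (vec w) * (c w - c y)) • vec x := by
      have e1 : (β * f (vec y) / e) • (f (vec w) • vec y - f (vec y) • vec w) = f (vec y) • β • vec u := by
        rw [hu, smul_smul, smul_smul, div_mul_cancel₀ _ e0, mul_comm]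
      have h6 : d w * f (vec w) = α * d y * f (vec y) := by rw [h4]; ring
      linear_combination (norm := module) e1 - f (vec y) • h3 + h6 • vec y + (f (vec y) * c y) • h6 • vec x
    have h7 : d w + β * f (vec y) / e ≠ 0 := fun e1 => by
      rw [e1, zero_smul, eq_comm, smul_eq_zero] at h5
      exact h5.elim (mul_ne_zero (mul_ne_zero (mul_ne_zero (hd w hw) hy) hw) (sub_ne_zero.2 (Ne.symm ne))) (v0 x)
    exact hn _ ((eq_inv_smul_iff₀ h7).2 h5 |>.trans (smul_smul _ _ _))
  have h3 : ∀ y w, f (vec y) ≠ 0 → f (vec w) ≠ 0 → c y = c w := by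
    intro y w hy hw
    by_cases hn : ∀ a : F, f (vec w) • vec y - f (vec y) • vec w ≠ a • vec x
    · exact h2 y w hy hw hn
    push Not at hn
    obtain ⟨a, ha⟩ := hn
    obtain ⟨z, z1, z2⟩ := hz
    obtain ⟨u, e, hu⟩ := surj (vec y + vec z) fun e => hy (by simpa [z1] using congrArg f e)
    have fu : f (vec y) = e * f (vec u) := by simpa [z1] using congrArg f hu
    have u0 : f (vec u) ≠ 0 := fun e => hy (by rw [fu, e, mul_zero])
    have e0 : e ≠ 0 := fun e => hy (by rw [fu, e, zero_mul])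
    refine (h2 y u hy u0 fun b hb => z2 (inj _ _ (- b / f (vec u)) ?_)).trans (h2 w u hw u0 fun b hb => z2
      (inj _ _ ((- a * f (vec u) - b * f (vec y)) / (f (vec u) * f (vec w))) ?_)).symm
    · rw [div_eq_inv_mul, ← smul_smul, eq_inv_smul_iff₀ u0]
      linear_combination (norm := module) f (vec u) • hu - hb - fu • vec u
    · rw [div_eq_inv_mul, ← smul_smul, eq_inv_smul_iff₀ (mul_ne_zero u0 hw)]
      linear_combination (norm := module) (f (vec u) * f (vec w)) • hu - f (vec y) • hb - f (vec u) • ha -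
        f (vec w) • fu • vec u
  by_cases hy : ∃ y, f (vec y) ≠ 0
  · obtain ⟨y, hy⟩ := hy
    refine ⟨c y, fun w => ?_⟩
    by_cases hw : f (vec w) = 0
    · exact ⟨1, by simp [hw, (hf w).1 hw]⟩
    · exact ⟨d w, by rw [h3 y w hy hw, hc w hw]⟩
  · push Not at hy
    exact ⟨0, fun w => ⟨1, by simp [(hf w).1 (hy w)]⟩⟩

theorem exists_form (v0 : ∀ x, vec x ≠ 0) (inj : ∀ x y (c : F), vec x = c • vec y → x = y)
    (surj : ∀ v : V, v ≠ 0 → ∃ x, ∃ c : F, v = c • vec x) {W : X → Prop}
    (h1 : ∀ y z w, W y → W z → y ≠ z → Lin F vec y z w → W w) {p : X} (hp : ¬ W p)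
    (h2 : ∀ r, ¬ W r → r ≠ p → ∃ u, W u ∧ Lin F vec p r u) : ∃ f : V →ₗ[F] F, ∀ y, f (vec y) = 0 ↔ W y := by
  let S : Submodule F V :=
    { carrier := {v | v = 0 ∨ ∃ y, W y ∧ ∃ c : F, v = c • vec y}
      zero_mem' := Or.inl rfl
      smul_mem' := by
        rintro c v (rfl | ⟨y, hy, d, rfl⟩)
        exacts [Or.inl (smul_zero c), Or.inr ⟨y, hy, c * d, smul_smul _ _ _⟩]
      add_mem' := by
        rintro a b (rfl | ⟨y, hy, c, rfl⟩) (rfl | ⟨z, hz, d, rfl⟩)
        · exact Or.inl (add_zero 0)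
        · exact Or.inr ⟨z, hz, d, zero_add _⟩
        · exact Or.inr ⟨y, hy, c, add_zero _⟩
        by_cases e : y = z
        · exact Or.inr ⟨y, hy, c + d, by rw [e, add_smul]⟩
        by_cases e0 : c • vec y + d • vec z = 0
        · exact Or.inl e0
        obtain ⟨w, k, hw⟩ := surj _ e0
        have k0 : k ≠ 0 := by rintro rfl; exact e0 (by simpa using hw)
        exact Or.inr ⟨w, h1 y z w hy hz e ⟨k⁻¹ * c, k⁻¹ * d, by
          rw [← smul_smul, ← smul_smul, ← smul_add, hw, smul_smul, inv_mul_cancel₀ k0, one_smul]⟩, k, hw⟩ }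
  obtain ⟨f, f1, f2⟩ := Submodule.exists_le_ker_of_notMem (p := S) (v := vec p) (by
    rintro (e | ⟨y, hy, c, e⟩)
    exacts [v0 p e, hp (inj _ _ c e ▸ hy)])
  have f3 : ∀ y, W y → f (vec y) = 0 := fun y hy => f2 (Or.inr ⟨y, hy, 1, (one_smul _ _).symm⟩)
  refine ⟨f, fun y => ⟨fun hy => by_contra fun hW => ?_, f3 y⟩⟩
  obtain ⟨u, hu, α, β, e⟩ := h2 y hW fun e => f1 (e ▸ hy)
  have := congrArg f e
  simp only [f3 u hu, map_add, map_smul, hy, smul_eq_mul, mul_zero, add_zero] at this
  rw [(mul_eq_zero.1 this.symm).resolve_right f1, zero_smul, zero_add] at e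
  exact hW (inj _ _ β e ▸ hu)

end

theorem dot_form {F ι : Type*} [Field F] [Fintype ι] [DecidableEq ι] (f : (ι → F) →ₗ[F] F) (v : ι → F) :
    (fun i => f fun j => if i = j then 1 else 0) ⬝ᵥ v = f v := by
  rw [f.pi_apply_eq_sum_univ v]; simp [dotProduct, mul_comm]

/-- The transvection `v ↦ v + f v • x` as an element of `SL`. -/
noncomputable def tvSL {F ι : Type*} [Field F] [Fintype ι] [DecidableEq ι] (x : ι → F) (f : (ι → F) →ₗ[F] F)
    (h : f x = 0) : SpecialLinearGroup ι F :=
  ⟨1 + vecMulVec x fun i => f fun j => if i = j then 1 else 0, by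
    rw [vecMulVec_eq Unit, det_one_add_replicateCol_mul_replicateRow, dot_form, h, add_zero]⟩

theorem tvSL_smul {F ι : Type*} [Field F] [Fintype ι] [DecidableEq ι] (x : ι → F) (f : (ι → F) →ₗ[F] F)
    (h : f x = 0) (v : ι → F) : tvSL x f h • v = v + f v • x := by
  change (1 + vecMulVec x fun i => f fun j => if i = j then 1 else 0) *ᵥ v = _
  rw [add_mulVec, one_mulVec, vecMulVec_mulVec, dot_form]
  ext i; simp [mul_comm]

theorem final {G X F : Type*} [Group G] [MulAction G X] [Field F] [Finite F] {n : ℕ} {vec : X → Fin n → F}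
    (N : X → Subgroup G) (v0 : ∀ x, vec x ≠ 0) (inj : ∀ x y (c : F), vec x = c • vec y → x = y)
    (surj : ∀ v : Fin n → F, v ≠ 0 → ∃ x, ∃ c : F, v = c • vec x)
    (faith : ∀ g : G, (∀ x : X, g • x = x) → g = 1) (eqv : ∀ (g : G) x, ∀ a ∈ N x, g * a * g⁻¹ ∈ N (g • x))
    (fix : ∀ x, ∀ a ∈ N x, a • x = x)
    (h2 : ∀ (g : G) x y z, x ≠ y → Lin F vec x y z → Lin F vec (g • x) (g • y) (g • z))
    (h3 : ∀ x, ∀ a ∈ N x, ∀ y, Lin F vec x y (a • y))
    (h4 : ∀ x, ∀ a ∈ N x, ∀ y z w, a • y = y → a • z = z → y ≠ z → Lin F vec y z w → a • w = w)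
    (h5 : ∀ x, ∀ a ∈ N x, ∀ p r, a • p ≠ p → a • r ≠ r → r ≠ p → ∃ u, a • u = u ∧ Lin F vec p r u)
    (h6 : ∀ x, ∀ a ∈ N x, ∀ p r, a • p ≠ p → Lin F vec x p r → r ≠ x →
      ∃ b ∈ N x, (∀ w : X, a • w = w → b • w = w) ∧ b • p = r)
    (h7 : ∀ x y, y ≠ x → ∃ a ∈ N x, a • y ≠ y) (h8 : ∀ x, ∀ a ∈ N x, ∃ z, z ≠ x ∧ a • z = z) :
    ∃ L : Subgroup G, L.Normal ∧ Subgroup.centralizer (L : Set G) = ⊥ ∧
      Nonempty (L ≃* ProjectiveSpecialLinearGroup (Fin n) F) ∧ Nat.card X * (Nat.card F - 1) = Nat.card F ^ n - 1 := by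
  classical
  have hφ : Function.Bijective fun x => Projectivization.mk F (vec x) (v0 x) := ⟨fun x y e => by
    obtain ⟨a, ha⟩ := (Projectivization.mk_eq_mk_iff' F _ _ _ _).1 e
    exact inj _ _ a ha.symm, Projectivization.ind fun v hv => by
      obtain ⟨x, c, rfl⟩ := surj v hv
      exact ⟨x, ((Projectivization.mk_eq_mk_iff' F _ _ _ _).2 ⟨c, rfl⟩).symm⟩⟩
  let φ := Equiv.ofBijective _ hφ
  let ψ : G →* Equiv.Perm (Projectivization F (Fin n → F)) := φ.permCongrHom.toMonoidHom.comp (MulAction.toPermHom G X)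
  have ψi : Function.Injective ψ := φ.permCongrHom.injective.comp ((injective_iff_map_eq_one _).2 fun g hg =>
    faith g fun x => congrArg (fun s : Equiv.Perm X => s x) hg)
  let Tv : X → G → ((Fin n → F) →ₗ[F] F) → Prop := fun x a f => f (vec x) = 0 ∧
    ∀ y, ∃ d : F, vec (a • y) = d • (vec y + f (vec y) • vec x)
  have tvψ : ∀ x a f (h : Tv x a f), ψ a = MulAction.toPermHom _ _ (tvSL (vec x) f h.1) := fun x a f h => by
    refine Equiv.ext fun q => ?_
    obtain ⟨y, rfl⟩ := φ.surjective q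
    obtain ⟨d, hd⟩ := h.2 y
    have : ψ a (φ y) = φ (a • y) := by simp [ψ]
    rw [this]
    change Projectivization.mk F (vec (a • y)) (v0 _) = tvSL (vec x) f h.1 • Projectivization.mk F (vec y) (v0 _)
    rw [Projectivization.smul_mk]
    exact (Projectivization.mk_eq_mk_iff' F _ _ _ _).2 ⟨d, by rw [tvSL_smul, hd]⟩
  have mkT : ∀ x, ∀ a ∈ N x, ∀ f : (Fin n → F) →ₗ[F] F, f (vec x) = 0 → (∀ y, f (vec y) = 0 → a • y = y) →
      (∃ z, f (vec z) = 0 ∧ z ≠ x) → (∀ y, a • y = y → f (vec y) = 0) → ∃ c : F, Tv x a (c • f) :=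
    fun x a ha f f1 f2 f3 f4 =>
      let ⟨c, hc⟩ := tv_form v0 inj surj (g := fun y => a • y) (h2 a) (fun y => ⟨f2 y, f4 y⟩)
        (MulAction.injective a) (h3 x a ha) f1 f3
      ⟨c, by simp [f1], hc⟩
  have exT : ∀ x, ∀ a ∈ N x, ∃ f, Tv x a f := fun x a ha => by
    by_cases e : ∀ p : X, a • p = p
    · exact ⟨0, rfl, fun y => ⟨1, by simp [e]⟩⟩
    push Not at e
    obtain ⟨p, hp⟩ := e
    obtain ⟨f, hf⟩ := exists_form v0 inj surj (W := fun y => a • y = y) (h4 x a ha) hp fun r h1 h2 => h5 x a ha p r hp h1 h2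
    obtain ⟨z, z1, z2⟩ := h8 x a ha
    exact (mkT x a ha f ((hf x).2 (fix x a ha)) (fun y => (hf y).1) ⟨z, (hf z).2 z2, z1⟩ fun y => (hf y).2).elim
      fun c hc => ⟨_, hc⟩
  have tfix : ∀ x a f, Tv x a f → ∀ y, y ≠ x → (a • y = y ↔ f (vec y) = 0) := fun x a f h y yx => by
    obtain ⟨d, hd⟩ := h.2 y
    refine ⟨fun e => by_contra fun e' => ?_, fun e => inj _ _ d (by simpa [e] using hd)⟩
    rw [e] at hd
    have d1 : d = 1 := by
      have := congrArg f hd
      simp only [map_smul, map_add, h.1, smul_eq_mul, mul_zero, add_zero] at this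
      exact (mul_eq_right₀ e').1 this.symm
    rw [d1, one_smul, left_eq_add, smul_eq_zero] at hd
    exact hd.elim e' (v0 x)
  have all : ∀ x (f : (Fin n → F) →ₗ[F] F), f (vec x) = 0 → ∃ a ∈ N x, Tv x a f := fun x f hf => by
    let Φ : Submodule F (Module.Dual F (Fin n → F)) :=
      { carrier := {f | ∃ a ∈ N x, Tv x a f}
        zero_mem' := ⟨1, one_mem _, rfl, fun y => ⟨1, by simp⟩⟩
        add_mem' := by
          rintro f g ⟨a, ha, a1, a2⟩ ⟨b, hb, b1, b2⟩
          refine ⟨a * b, mul_mem ha hb, by simp [a1, b1], fun y => ?_⟩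
          obtain ⟨d, hd⟩ := b2 y
          obtain ⟨e, he⟩ := a2 (b • y)
          refine ⟨e * d, ?_⟩
          rw [mul_smul, he, hd]
          simp only [map_smul, map_add, a1, smul_eq_mul, mul_zero, add_zero, LinearMap.add_apply]
          module
        smul_mem' := by
          rintro c f ⟨a, ha, hT⟩
          by_cases e : ∀ y, f (vec y) = 0
          · exact ⟨1, one_mem _, by simp [hT.1], fun y => ⟨1, by simp [e]⟩⟩
          push Not at e
          obtain ⟨p, hp⟩ := e
          have px : p ≠ x := fun e => hp (e ▸ hT.1)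
          obtain ⟨r, k, hr⟩ := surj (vec p + (c * f (vec p)) • vec x) fun e => hp (by simpa [hT.1] using congrArg f e)
          have k1 : f (vec p) = k * f (vec r) := by simpa [hT.1] using congrArg f hr
          have k0 : k ≠ 0 := fun e => hp (by rw [k1, e, zero_mul])
          obtain ⟨b, hb, b1, rfl⟩ := h6 x a ha p r (fun e => hp ((tfix x a f hT p px).1 e))
            ⟨k⁻¹ * (c * f (vec p)), k⁻¹, by
              rw [← smul_smul, ← smul_add, add_comm, hr, smul_smul, inv_mul_cancel₀ k0, one_smul]⟩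
            fun e => hp (by rw [k1, e, hT.1, mul_zero])
          have fa : ∀ y, f (vec y) = 0 → b • y = y := fun y hy => b1 y (by
            by_cases e : y = x
            exacts [e ▸ fix _ a (e ▸ ha), (tfix x a f hT y e).2 hy])
          obtain ⟨g, hg⟩ := exT x b hb
          refine ⟨b, hb, ?_⟩
          have : g = c • f := by
            have gp : g (vec p) = c * f (vec p) := by
              obtain ⟨d, hd⟩ := hg.2 p
              rw [hd, smul_smul] at hr
              have h1 : k * d = 1 := by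
                have := congrArg f hr
                simp only [map_smul, map_add, hT.1, smul_eq_mul, mul_zero, add_zero] at this
                exact (mul_eq_right₀ hp).1 this.symm
              rw [h1, one_smul, add_right_inj] at hr
              exact (smul_left_injective F (v0 x) hr).symm
            have gk : ∀ v, f v = 0 → g v = 0 := fun v hv => by
              by_cases v1 : v = 0
              · rw [v1, map_zero]
              obtain ⟨y, e, rfl⟩ := surj v v1
              by_cases yx : y = x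
              · simp [yx, hg.1]
              have : f (vec y) = 0 := by
                rw [map_smul, smul_eq_zero] at hv
                exact hv.resolve_left fun e0 => v1 (by rw [e0, zero_smul])
              rw [map_smul, (tfix x b g hg y yx).1 (fa y this), smul_zero]
            refine LinearMap.ext fun v => ?_
            have := gk (v - (f v / f (vec p)) • vec p) (by simp [div_mul_cancel₀ _ hp])
            rw [map_sub, map_smul, gp, sub_eq_zero] at this
            rw [this]; simp only [smul_eq_mul, LinearMap.smul_apply]; field_simp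
          exact this ▸ hg }
    have : f ∈ Φ := by
      rw [← Subspace.dualCoannihilator_dualAnnihilator_eq (W := Φ), Submodule.mem_dualAnnihilator]
      intro v hv
      by_cases v1 : v = 0
      · rw [v1, map_zero]
      obtain ⟨y, e, rfl⟩ := surj v v1
      by_cases yx : y = x
      · simp [yx, hf]
      obtain ⟨a, ha, a1⟩ := h7 x y yx
      obtain ⟨g, hg⟩ := exT x a ha
      have := (Submodule.mem_dualCoannihilator _).1 hv g ⟨a, ha, hg⟩
      rw [map_smul, smul_eq_zero] at this
      exact absurd ((tfix x a g hg y yx).2 (this.resolve_left fun e0 => v1 (by rw [e0, zero_smul]))) a1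
    exact this
  have rng : (⨆ x, N x).map ψ = (Projectivization.PSLAction.toPermHom (K := F) (ι := Fin n)).range := by
    refine le_antisymm (Subgroup.map_le_iff_le_comap.2 (iSup_le fun x a ha => ?_)) ?_
    · obtain ⟨f, hf⟩ := exT x a ha
      exact ⟨QuotientGroup.mk (tvSL (vec x) f hf.1), (tvψ x a f hf).symm⟩
    · rintro _ ⟨s, rfl⟩
      obtain ⟨s, rfl⟩ := QuotientGroup.mk_surjective s
      refine (Classical.eq_top_of_transvection_mem (((⨆ x, N x).map ψ).comap (MulAction.toPermHom _ _))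
        fun i j hij c => ?_).ge (Subgroup.mem_top s)
      obtain ⟨x, k, hk⟩ := surj (Pi.single i 1) (by simp)
      have k0 : k ≠ 0 := by rintro rfl; simpa using congrFun hk i
      have hx : vec x j = 0 := by
        have := congrFun hk j
        simp only [Pi.single_eq_of_ne hij.symm, Pi.smul_apply, smul_eq_mul] at this
        exact (mul_eq_zero.1 this.symm).resolve_left k0
      obtain ⟨a, ha, hT⟩ := all x ((c * k) • LinearMap.proj j) (by simp [hx])
      refine ⟨a, Subgroup.mem_iSup_of_mem x ha, (tvψ x a _ hT).trans (congrArg _ ?_)⟩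
      refine Subtype.ext (toLin'.injective (LinearMap.ext fun v => (tvSL_smul _ _ hT.1 v).trans ?_))
      change _ = transvection i j c *ᵥ v
      rw [transvection, add_mulVec, one_mulVec, single_mulVec]
      simp only [LinearMap.smul_apply, LinearMap.proj_apply, smul_eq_mul, add_right_inj]
      rw [show (c * k * v j) • vec x = (c * v j) • (k • vec x) by module, ← hk]
      ext l; by_cases e : l = i <;> simp [e]
  refine ⟨⨆ x, N x, ⟨fun a ha g => ?_⟩, eq_bot_iff.2 fun g hg => faith g fun x => by_contra fun e => ?_,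
    ⟨((⨆ x, N x).equivMapOfInjective ψ ψi).trans ((MulEquiv.subgroupCongr rng).trans
      (MonoidHom.ofInjective ProjectiveSpecialLinearGroup.toPermHom_injective).symm)⟩, ?_⟩
  · refine Subgroup.iSup_induction N (C := fun a => g * a * g⁻¹ ∈ ⨆ x, N x) ha
      (fun x a ha => Subgroup.mem_iSup_of_mem _ (eqv g x a ha)) (by simp) fun a b h1 h2 => ?_
    simpa [mul_assoc] using mul_mem h1 h2
  · obtain ⟨a, ha, a1⟩ := h7 x _ e
    exact a1 (by rw [← mul_smul, hg a (Subgroup.mem_iSup_of_mem x ha), mul_smul, fix x a ha])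
  · rw [Nat.card_congr φ, ← Projectivization.card, Nat.card_fun, Nat.card_fin]

end Cfsg.Agent.ONan
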