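import Cfsg.Agent.Plane.Coord

/-! A finite abelian group with a partition admitting enough shears is a vector space whose partition consists of
the one-dimensional subspaces (`Spr.exists_field`). -/

set_option autoImplicit false

namespace Cfsg.Agent.ONan

/-- A partition `Γ` of `A` with groups of shears `D`. -/
structure Spr {A ι : Type*} [AddCommGroup A] (Γ : ι → AddSubgroup A) (D : ι → AddSubgroup (AddMonoid.End A))
    (Col : ι → ι → ι → Prop) : Prop where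
  cover : ∀ w, ∃ y, w ∈ Γ y
  disj : ∀ {x y w}, w ∈ Γ x → w ∈ Γ y → x ≠ y → w = 0
  ne : ∀ x, ∃ u ∈ Γ x, u ≠ 0
  two : ∀ x : ι, ∃ y, y ≠ x
  img : ∀ {x}, ∀ a ∈ D x, ∀ w, a w ∈ Γ x
  kill : ∀ {x}, ∀ a ∈ D x, ∀ w ∈ Γ x, a w = 0
  conj : ∀ {x}, ∀ a ∈ D x, ∀ y, ∃ y', (∀ w ∈ Γ y, w + a w ∈ Γ y') ∧ ∀ b ∈ D y, (1 + a) * b * (1 - a) ∈ D y'
  tr : ∀ {x y}, x ≠ y → ∀ u ∈ Γ x, ∀ w ∈ Γ y, w ≠ 0 → ∃ a ∈ D x, a w = u
  col : ∀ {x y z}, x ≠ y → x ≠ z → Col x y z → ∃ a ∈ D x, ∀ w ∈ Γ y, w + a w ∈ Γ z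
  tri : ∀ {x y z}, x ≠ y → ¬ Col x y z → ∀ a ∈ D x, ∃ a' ∈ D x, (∀ w ∈ Γ y, a' w = 0) ∧ ∀ w ∈ Γ z, a' w = a w
  s1 : ∀ {x y z}, x ≠ y → Col x y z → Col y x z
  s2 : ∀ {x y z}, x ≠ y → x ≠ z → Col x y z → Col x z y

namespace Spr
variable {A ι : Type*} [AddCommGroup A] {Γ : ι → AddSubgroup A} {D : ι → AddSubgroup (AddMonoid.End A)}
  {Col : ι → ι → ι → Prop} (h : Spr Γ D Col)
include h

theorem mul0 {x : ι} {a b : AddMonoid.End A} (ha : ∀ w ∈ Γ x, a w = 0) (hb : b ∈ D x) : a * b = 0 :=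
  AddMonoidHom.ext fun w => ha _ (h.img b hb w)

theorem back {x y z : ι} {a : AddMonoid.End A} (ha : a ∈ D x) (hz : ∀ w ∈ Γ y, w + a w ∈ Γ z) :
    (∀ v ∈ Γ z, v - a v ∈ Γ y) ∧ ∀ b ∈ D z, (1 - a) * b * (1 + a) ∈ D y := by
  obtain ⟨y', h1, h2⟩ := h.conj (-a) (neg_mem ha) z
  obtain ⟨w, w1, w2⟩ := h.ne y
  obtain rfl : y = y' := by_contra fun e => w2 (h.disj w1 (by
    have : w + a w + -(a (w + a w)) ∈ Γ y' := h1 _ (hz w w1)
    rwa [map_add, h.kill a ha _ (h.img a ha w), add_zero, add_neg_cancel_right] at this) e)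
  exact ⟨fun v hv => by rw [sub_eq_add_neg]; exact h1 v hv, fun b hb => by simpa [sub_eq_add_neg] using h2 b hb⟩

theorem pair {x y : ι} (e : x ≠ y) {b : AddMonoid.End A} (hb : b ∈ D y) {u : A} (hu : u ∈ Γ x) (h0 : b u ≠ 0) :
    ∃ a ∈ D x, (∀ v ∈ Γ x, a (b v) = v) ∧ ∀ w ∈ Γ y, b (a w) = w := by
  obtain ⟨a, ha, au⟩ := h.tr e u hu _ (h.img b hb u) h0
  obtain ⟨z, z1, -⟩ := h.conj b hb x
  obtain ⟨z', z2, -⟩ := h.conj a ha y
  obtain rfl : z = z' := by_contra fun e' => h0 (h.disj (x := x) (by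
    have := h.disj (z1 u hu) (by have := z2 _ (h.img b hb u); rwa [au, add_comm] at this) e'
    rw [eq_neg_of_add_eq_zero_right this]; exact neg_mem hu) (h.img b hb u) e)
  refine ⟨a, ha, fun v hv => ?_, fun w hw => ?_⟩
  · have h1 := (h.back ha z2).1 _ (z1 v hv)
    rw [map_add, h.kill a ha v hv, zero_add, add_sub_right_comm] at h1
    exact (sub_eq_zero.1 (h.disj (sub_mem hv (h.img a ha _)) ((add_mem_cancel_right (h.img b hb v)).1 h1) e)).symm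
  · have h1 := (h.back hb z1).1 _ (z2 w hw)
    rw [map_add, h.kill b hb w hw, zero_add, add_sub_right_comm] at h1
    exact (sub_eq_zero.1 (h.disj (sub_mem hw (h.img b hb _)) ((add_mem_cancel_right (h.img a ha w)).1 h1) e.symm)).symm

theorem pair' {x y : ι} (e : x ≠ y) : ∃ a ∈ D x, ∃ b ∈ D y, (∀ v ∈ Γ x, a (b v) = v) ∧ ∀ w ∈ Γ y, b (a w) = w := by
  obtain ⟨u, u1, u2⟩ := h.ne x
  obtain ⟨w, w1, w2⟩ := h.ne y
  obtain ⟨b, hb, rfl⟩ := h.tr e.symm w w1 u u1 u2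
  obtain ⟨a, ha, h1⟩ := h.pair e hb u1 w2
  exact ⟨a, ha, b, hb, h1⟩

theorem star {x y z : ι} (e : z ≠ x) (hc : ¬ Col z x y) {a b : AddMonoid.End A} (ha : a ∈ D x) (hb : b ∈ D z) :
    ∃ c ∈ D x, ∀ w ∈ Γ y, c w = a (b w) := by
  obtain ⟨b', b1, b2, b3⟩ := h.tri e hc b hb
  have h1 := (h.back (y := x) (z := x) b1 fun w hw => by rwa [b2 w hw, add_zero]).2 a ha
  have h2 : (1 - b') * a * (1 + b') = a + a * b' - b' * a * (1 + b') := by noncomm_ring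
  rw [h2, h.mul0 b2 ha, zero_mul, sub_zero] at h1
  exact ⟨a * b', (add_mem_cancel_left ha).1 h1, fun w hw => by rw [← b3 w hw]; rfl⟩

theorem loops [Finite A] (X : ι) : ∃ K : AddMonoid.End A → Prop,
    (∀ a b, K a → K b → ∀ u ∈ Γ X, a (b u) = b (a u)) ∧ (∀ y, y ≠ X → ∀ a ∈ D X, ∀ b ∈ D y, K (a * b)) ∧
    ∀ y x, y ≠ X → x ≠ X → x ≠ y → ∀ a ∈ D X, ∀ m ∈ D x, ∀ b ∈ D y, K (a * m * b) := by
  obtain ⟨Y, YX⟩ := h.two X
  obtain ⟨g, hg, f, hf, gf, fg⟩ := h.pair' YX.symm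
  let E : D X → D Y → AddMonoid.End (Γ X) := fun a b =>
    ((a.1 * b.1 : AddMonoid.End A).comp (Γ X).subtype).codRestrict (Γ X) fun u => h.img _ a.2 _
  have ext : ∀ x y : AddMonoid.End (Γ X), (∀ t, (x t).1 = (y t).1) → x = y := fun x y e =>
    AddMonoidHom.ext fun t => Subtype.ext (e t)
  let F := (AddMonoidHom.mk' (fun b : D Y => E ⟨g, hg⟩ b) fun a b => ext _ _ fun t => map_add g _ _).range
  let F' := (AddMonoidHom.mk' (fun a : D X => E a ⟨f, hf⟩) fun a b => ext _ _ fun t => rfl).range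
  have E1 : E ⟨g, hg⟩ ⟨f, hf⟩ = 1 := ext _ _ fun t => gf _ t.2
  have inv : ∀ (a : D X) (b : D Y), (∀ v ∈ Γ X, a.1 (b.1 v) = v) → (∀ w ∈ Γ Y, b.1 (a.1 w) = w) →
      E ⟨g, hg⟩ b * E a ⟨f, hf⟩ = 1 ∧ E a ⟨f, hf⟩ * E ⟨g, hg⟩ b = 1 := fun a b e1 e2 =>
    ⟨ext _ _ fun t => by
      change g (b.1 (a.1 (f t))) = t
      rw [e2 _ (h.img f hf _), gf _ t.2], ext _ _ fun t => by
      change a.1 (f (g (b.1 t))) = t
      rw [fg _ (h.img _ b.2 _), e1 _ t.2]⟩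
  obtain ⟨u, u1, u2⟩ := h.ne X
  haveI : Nontrivial (AddMonoid.End (Γ X)) :=
    ⟨1, 0, fun e => u2 (congrArg (fun x : AddMonoid.End (Γ X) => (x ⟨u, u1⟩).1) e)⟩
  haveI : Finite (AddMonoid.End (Γ X)) := Finite.of_injective _ (DFunLike.coe_injective (F := Γ X →+ Γ X))
  have i1 : ∀ x ∈ F, x ≠ 0 → ∃ y ∈ F', x * y = 1 ∧ y * x = 1 := by
    rintro _ ⟨b, rfl⟩ e
    obtain ⟨t, ht⟩ : ∃ t : Γ X, b.1 t ≠ 0 := by
      by_contra hc
      push Not at hc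
      exact e (ext _ _ fun t => by change g (b.1 t) = 0; rw [hc, map_zero])
    obtain ⟨a, ha, e1, e2⟩ := h.pair YX.symm b.2 t.2 ht
    exact ⟨_, ⟨⟨a, ha⟩, rfl⟩, inv ⟨a, ha⟩ b e1 e2⟩
  have i2 : ∀ y ∈ F', y ≠ 0 → ∃ x ∈ F, y * x = 1 ∧ x * y = 1 := by
    rintro _ ⟨a, rfl⟩ e
    obtain ⟨t, ht⟩ : ∃ t : Γ X, a.1 (f t) ≠ 0 := by
      by_contra hc
      push Not at hc
      exact e (ext _ _ hc)
    obtain ⟨b, hb, e1, e2⟩ := h.pair YX a.2 (h.img f hf _) ht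
    exact ⟨_, ⟨⟨b, hb⟩, rfl⟩, (inv a ⟨b, hb⟩ e2 e1).symm⟩
  have J := Plane.hua (F := F) (F' := F') ⟨⟨f, hf⟩, E1⟩ ⟨⟨g, hg⟩, E1⟩ i1 i2
  let K : AddMonoid.End A → Prop := fun a => ∃ φ ∈ F, ∀ t : Γ X, a t = (φ t).1
  have Km : ∀ a b, K a → K b → K (a * b) := fun a b ⟨φ, a1, a2⟩ ⟨ψ, b1, b2⟩ =>
    ⟨φ * ψ, J.mul_mem a1 b1, fun t => by change a (b t) = _; rw [b2, a2]; rfl⟩
  have Kc : ∀ a b, K a → (∀ t ∈ Γ X, b t = a t) → K b := fun a b ⟨φ, a1, a2⟩ e => ⟨φ, a1, fun t => (e _ t.2).trans (a2 t)⟩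
  have K1 : ∀ a ∈ D X, K (a * f) := fun a ha =>
    ⟨E ⟨a, ha⟩ ⟨f, hf⟩, by simpa using Plane.hua_aux i1 i2 J.one_mem ⟨⟨a, ha⟩, rfl⟩, fun _ => rfl⟩
  have K2 : ∀ a ∈ D X, ∀ b ∈ D Y, K (a * b) := fun a ha b hb =>
    Kc _ _ (Km _ (g * b) (K1 a ha) ⟨_, ⟨⟨b, hb⟩, rfl⟩, fun _ => rfl⟩) fun t _ => by
      change a (b t) = a (f (g (b t)))
      rw [fg _ (h.img b hb t)]
  have L2 : ∀ y, y ≠ X → ∀ a ∈ D X, ∀ b ∈ D y, K (a * b) := fun y yX a ha b hb => by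
    by_cases e : y = Y
    · exact K2 a ha b (e ▸ hb)
    by_cases hc : Col X Y y
    · obtain ⟨c, c1, c2⟩ := h.col YX.symm yX.symm hc
      refine Kc _ _ (K2 a ha _ ((h.back c1 c2).2 b hb)) fun t ht => ?_
      change a (b t) = a (b (t + c t) - c (b (t + c t)))
      rw [h.kill c c1 t ht, add_zero, map_sub, h.kill a ha _ (h.img c c1 _), sub_zero]
    · have hc' : ¬ Col X y Y := fun e' => hc (h.s2 yX.symm YX.symm e')
      obtain ⟨c, c1, c2⟩ := h.star yX.symm hc' hb hg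
      obtain ⟨d, d1, d2⟩ := h.star yX (fun e' => hc' (h.s1 yX e')) ha c1
      refine Kc _ _ (K1 d d1) fun t ht => ?_
      change a (b t) = d (f t)
      rw [d2 _ (h.img f hf t), c2 _ (h.img f hf t), gf t ht]
  refine ⟨K, fun a b ⟨φ, a1, a2⟩ ⟨ψ, b1, b2⟩ u hu => ?_, L2, fun y x yX xX xy a ha m hm b hb => ?_⟩
  · rw [b2 ⟨u, hu⟩, a2 ⟨u, hu⟩, a2, b2]
    exact congrArg (fun x : AddMonoid.End (Γ X) => (x ⟨u, hu⟩).1) (J.comm a1 b1)
  by_cases hc : Col x X y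
  · obtain ⟨c, c1, c2⟩ := h.col yX.symm xX.symm (h.s2 xX.symm yX.symm (h.s1 xX hc))
    have m1 := (h.back c1 c2).2 m hm
    refine Kc _ _ (Km _ _ (L2 y yX a ha _ m1) (L2 y yX _ (neg_mem c1) b hb)) fun t _ => ?_
    have e1 : a * ((1 - c) * m * (1 + c)) * (-c * b) = a * m * b - a * ((1 - c) * m * (1 + c) * b) -
        a * c * (m * b) + (a * m - a * c * m) * (c * c) * (-b) := by noncomm_ring
    rw [e1, h.mul0 (h.kill _ m1) hb, h.mul0 (h.kill a ha) c1, h.mul0 (h.kill c c1) c1]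
    simp
  · obtain ⟨c, c1, c2⟩ := h.star xX hc ha hm
    exact Kc _ _ (L2 y yX c c1 b hb) fun t _ => (c2 _ (h.img b hb t)).symm

theorem exists_scal [Finite A] (X : ι) {u v : A} (hu : u ∈ Γ X) (u0 : u ≠ 0) (hv : v ∈ Γ X) :
    ∃ φ : AddMonoid.End A, (∀ x, ∀ m ∈ D x, m * φ = φ * m) ∧ φ u = v := by
  classical
  obtain ⟨K, K1, K2, K3⟩ := h.loops X
  have hp : ∀ y, y ≠ X → ∃ a ∈ D X, ∃ b ∈ D y, (∀ v ∈ Γ X, a (b v) = v) ∧ ∀ w ∈ Γ y, b (a w) = w :=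
    fun y e => h.pair' e.symm
  choose! e' he' e he ee' e'e using hp
  obtain ⟨Y, YX⟩ := h.two X
  obtain ⟨b, hb, bu⟩ := h.tr YX _ (h.img _ (he Y YX) v) u hu u0
  set l := e' Y * b with hl
  have lK : K l := K2 Y YX _ (he' Y YX) b hb
  have lX : ∀ w, l w ∈ Γ X := fun w => h.img _ (he' Y YX) _
  let P : ι → AddMonoid.End A := fun y => if y = X then l else e y * l * e' y
  have Pm : ∀ y w, P y w ∈ Γ y := fun y w => by
    by_cases e : y = X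
    · simpa [P, e] using lX w
    · simp only [P, if_neg e]; exact h.img _ (he y e) _
  have PX : P X = l := if_pos rfl
  have Pn : ∀ y, y ≠ X → ∀ w, P y w = e y (l (e' y w)) := fun y e w => by simp only [P, if_neg e]; rfl
  have com : ∀ x y, ∀ m ∈ D x, ∀ w ∈ Γ y, m (P y w) = P x (m w) := fun x y m hm w hw => by
    by_cases xy : x = y
    · subst xy; rw [h.kill m hm _ (Pm x w), h.kill m hm w hw, map_zero]
    by_cases yX : y = X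
    · subst yX
      rw [PX, Pn x xy, ← e'e x xy _ (h.img m hm (l w))]
      exact congrArg _ (K1 _ _ (K2 x xy _ (he' x xy) m hm) lK w hw)
    rw [Pn y yX]
    have w1 := h.img _ (he' y yX) w
    by_cases xX : x = X
    · subst xX
      rw [PX, ← congrArg (fun t => l (m t)) (e'e y yX w hw)]
      exact K1 _ _ (K2 y yX m hm _ (he y yX)) lK _ w1
    rw [Pn x xX, ← e'e x xX _ (h.img m hm _), ← congrArg (fun t => e x (l (e' x (m t)))) (e'e y yX w hw)]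
    exact congrArg _ (K1 _ _ (K3 y x yX xX xy _ (he' x xX) m hm _ (he y yX)) lK _ w1)
  choose c hc using h.cover
  have φP : ∀ y, ∀ w ∈ Γ y, P (c w) w = P y w := fun y w hw => by
    by_cases e : c w = y
    · rw [e]
    · rw [h.disj (hc w) hw e, map_zero, map_zero]
  have cm : ∀ x, ∀ m ∈ D x, ∀ w, m (P (c w) w) = P x (m w) := fun x m hm w => com x _ m hm w (hc w)
  refine ⟨AddMonoidHom.mk' (fun w => P (c w) w) fun a b => sub_eq_zero.1 (by_contra fun ne => ?_),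
    fun x m hm => AddMonoidHom.ext fun w => (cm x m hm w).trans (φP x _ (h.img m hm w)).symm, ?_⟩
  · obtain ⟨x, hx⟩ := h.two (c (P (c (a + b)) (a + b) - (P (c a) a + P (c b) b)))
    obtain ⟨t, t1, t2⟩ := h.ne x
    obtain ⟨m, hm, e⟩ := h.tr hx t t1 _ (hc _) ne
    rw [map_sub, cm x m hm, map_add m (P _ a), cm x m hm, cm x m hm, map_add, map_add, sub_self] at e
    exact t2 e.symm
  · change P (c u) u = v
    rw [φP X u hu, PX, hl]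
    change e' Y (b u) = v
    rw [bu, ee' Y YX v hv]

theorem exists_field [Finite A] : ∃ (F : Type) (_ : Field F) (_ : Finite F) (_ : Module F A),
    (∀ x (c : F), ∀ u ∈ Γ x, c • u ∈ Γ x) ∧ ∀ x, ∀ u ∈ Γ x, u ≠ 0 → ∀ v ∈ Γ x, ∃ c : F, c • u = v := by
  let C := Subring.centralizer {m : AddMonoid.End A | ∃ x, m ∈ D x}
  haveI : Finite (AddMonoid.End A) := Finite.of_injective _ (DFunLike.coe_injective (F := A →+ A))
  have cm : ∀ φ : C, ∀ x, ∀ m ∈ D x, ∀ w, m (φ.1 w) = φ.1 (m w) := fun φ x m hm w =>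
    congrArg (fun f : AddMonoid.End A => f w) (φ.2 m ⟨x, hm⟩)
  have z1 : ∀ φ : C, ∀ x y, x ≠ y → ∀ u ∈ Γ y, u ≠ 0 → φ.1 u = 0 → ∀ v ∈ Γ x, φ.1 v = 0 := fun φ x y e u u1 u2 u3 v hv => by
    obtain ⟨m, hm, rfl⟩ := h.tr e v hv u u1 u2
    rw [← cm φ x m hm, u3, map_zero]
  have z2 : ∀ φ : C, ∀ u, u ≠ 0 → φ.1 u = 0 → φ = 0 := fun φ u u2 u3 => Subtype.ext (AddMonoidHom.ext fun v => by
    obtain ⟨y, u1⟩ := h.cover u
    obtain ⟨x, hv⟩ := h.cover v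
    by_cases e : x = y
    · obtain ⟨z, hz⟩ := h.two y
      obtain ⟨t, t1, t2⟩ := h.ne z
      exact z1 φ x z (e ▸ hz.symm) t t1 t2 (z1 φ z y hz u u1 u2 u3 t t1) v hv
    · exact z1 φ x y e u u1 u2 u3 v hv)
  obtain ⟨x, -⟩ := h.cover 0
  obtain ⟨u, -, u2⟩ := h.ne x
  haveI : Nontrivial C := ⟨1, 0, fun e => u2 (congrArg (fun φ : C => φ.1 u) e)⟩
  haveI : NoZeroDivisors C := ⟨fun {a b} e => by
    by_cases e' : b.1 u = 0
    exacts [Or.inr (z2 b u u2 e'), Or.inl (z2 a _ e' (congrArg (fun φ : C => φ.1 u) e))]⟩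
  haveI : IsDomain C := NoZeroDivisors.to_isDomain C
  letI := (Finite.isDomain_to_isField C).toField
  let ι := Shrink.ringEquiv.{0} C
  letI : Module (Shrink.{0} C) A := Module.compHom A (C.subtype.comp ι.toRingHom)
  refine ⟨Shrink.{0} C, inferInstance, inferInstance, inferInstance, fun x c u hu => ?_, fun x u u1 u2 v hv => ?_⟩
  · obtain ⟨y, hy⟩ := h.two x
    obtain ⟨t, t1, t2⟩ := h.ne y
    obtain ⟨m, hm, rfl⟩ := h.tr hy.symm u hu t t1 t2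
    change (ι c).1 (m t) ∈ Γ x
    exact cm (ι c) x m hm t ▸ h.img m hm _
  · obtain ⟨φ, h1, h2⟩ := h.exists_scal x u1 u2 hv
    refine ⟨ι.symm ⟨φ, fun m ⟨y, hm⟩ => h1 y m hm⟩, ?_⟩
    change (ι (ι.symm _)).1 u = v
    rwa [ι.apply_symm_apply]

end Spr

end Cfsg.Agent.ONan
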