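import Cfsg.Agent.ONan.Geom
import Cfsg.Agent.ONan.Spread
import Cfsg.Agent.ONan.Final

/-! O'Nan's characterisation of `PSL_n(q)` (`ON.core`). -/

set_option autoImplicit false

namespace Cfsg.Agent.ONan

open MulAction Plane

variable {G X : Type*} [Group G] [MulAction G X] {N : X → Subgroup G} {p : ℕ}

namespace ON
variable [Finite G] [Finite X] (h : ON N p)
include h

section
variable {W : Set X} (hW : Hy N W)
include hW

theorem cntS {t : ℕ} (ht : ∀ y ∈ W, Nat.card (Gam N W y) = t + 1) {S : Set X} (hS : S ⊆ W) :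
    {g : G | g ≠ 1 ∧ ∃ y ∈ S, g ∈ Gam N W y}.ncard = S.ncard * t := by
  induction S, Set.toFinite S using Set.Finite.induction_on with
  | empty => simp
  | @insert y S hy _ ih =>
    have e : {g : G | g ≠ 1 ∧ ∃ z ∈ insert y S, g ∈ Gam N W z} =
        ((Gam N W y : Set G) \ {1}) ∪ {g : G | g ≠ 1 ∧ ∃ z ∈ S, g ∈ Gam N W z} := by
      ext g; simp only [Set.mem_setOf_eq, Set.mem_insert_iff, Set.mem_union, Set.mem_diff, SetLike.mem_coe,
        Set.mem_singleton_iff, exists_eq_or_imp]; tauto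
    have h4 := Set.ncard_diff_singleton_add_one (s := (Gam N W y : Set G)) (a := 1) (one_mem _)
    have h5 : (Gam N W y : Set G).ncard = t + 1 := ht y (hS (Set.mem_insert _ _))
    rw [e, Set.ncard_union_eq (Set.disjoint_left.2 (by
      rintro g h1 ⟨h2, z, h3, h4⟩
      exact h2 (h.ti h1.1.1 h4.1 fun e => hy (e ▸ h3)))), ih ((Set.subset_insert _ _).trans hS), Set.ncard_insert_of_notMem hy]
    linarith

theorem surjψ {x y : X} {a g : G} (hx : x ∈ W) (ha : a ∈ N x) (hy : y ∈ W) (ay : a • y ≠ y) (hg : g ∈ Gam N W x) :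
    ∃ b ∈ Gam N W y, a * b * a⁻¹ * b⁻¹ = g := by
  have xy : x ≠ y := fun e => ay (e ▸ h.fix x a ha)
  let f : Gam N W y → Gam N W x := fun b => ⟨_, h.cmG hW hx ha ⟨y, hy, b.2⟩⟩
  have hf : Function.Injective f := fun b c e => Subtype.ext (h.cm_inj ay b.2.1 c.2.1 (congrArg Subtype.val e))
  obtain ⟨b, hb⟩ := (hf.bijective_of_nat_card_le (by rw [h.cardG hW hx xy, h.cardG hW hy xy])).2 ⟨g, hg⟩
  exact ⟨b, b.2, congrArg Subtype.val hb⟩

omit h hW [Finite G] [Finite X] in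
theorem cm_eq {a b t : G} (e : a * b * a⁻¹ * b⁻¹ = a * t * a⁻¹ * t⁻¹) : a * (b⁻¹ * t) = b⁻¹ * t * a :=
  calc _ = a * b⁻¹ * a⁻¹ * (a * t * a⁻¹ * t⁻¹) * t * a := by group
    _ = _ := by rw [← e]; group

theorem big {x o : X} {a : G} (hx : x ∈ W) (ha : a ∈ N x) (ho : o ∉ W) :
    ∃ S ⊆ W ∪ orb (h.T hW) o, S ⊆ {q | a • q = q} ∧ W.ncard ≤ S.ncard := by
  by_cases hy : ∀ y ∈ W, a • y = y
  · exact ⟨W, Set.subset_union_left, hy, le_rfl⟩
  push Not at hy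
  obtain ⟨y, hy, ay⟩ := hy
  have xy : x ≠ y := fun e => ay (e ▸ h.fix x a ha)
  obtain ⟨t, ht⟩ : ∃ t, ∀ y ∈ W, Nat.card (Gam N W y) = t + 1 := ⟨Nat.card (Gam N W x) - 1, fun z hz => by
    rw [Nat.sub_add_cancel Nat.card_pos, h.cardG hW hz xy, h.cardG hW hx xy]⟩
  have t0 : 0 < t := by
    obtain ⟨b, b1, b2⟩ := h.exG hW hx
    have := (Subgroup.one_lt_card_iff_ne_bot (Gam N W x)).2 fun e => b2 (by simpa [e] using b1)
    rw [ht x hx] at this; omega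
  set C : Subgroup G := h.T hW ⊓ Subgroup.centralizer {a}
  have c1 : Nat.card (h.T hW) ≤ Nat.card (Gam N W y) * Nat.card C := by
    rw [← Nat.card_prod]
    refine Nat.card_le_card_of_surjective (fun z => ⟨z.1.1 * z.2.1, mul_mem ⟨y, hy, z.1.2⟩ z.2.2.1⟩) fun s => ?_
    obtain ⟨b, hb, e⟩ := h.surjψ hW hx ha hy ay (h.cmG hW hx ha s.2)
    exact ⟨(⟨b, hb⟩, ⟨b⁻¹ * s, (h.T hW).mul_mem ((h.T hW).inv_mem ⟨y, hy, hb⟩) s.2, Subgroup.mem_centralizer_singleton_iff.2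
      (cm_eq e).symm⟩), Subtype.ext (by simp)⟩
  have cd : ∀ (H : Subgroup G) (S : Set X), S ⊆ W → (∀ g, g ≠ 1 → (g ∈ H ↔ ∃ y ∈ S, g ∈ Gam N W y)) →
      Nat.card H = S.ncard * t + 1 := fun H S hS e => by
    rw [← h.cntS hW ht hS, show Nat.card H = (H : Set G).ncard from rfl,
      ← Set.ncard_diff_singleton_add_one (s := (H : Set G)) (a := 1) (one_mem _)]
    congr 2
    ext g
    exact ⟨fun hg => ⟨hg.2, (e g hg.2).1 hg.1⟩, fun hg => ⟨(e g hg.1).2 hg.2, hg.1⟩⟩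
  have c2 := cd (h.T hW) W le_rfl fun _ _ => Iff.rfl
  have c3 := cd C (W ∩ {q | a • q = q}) Set.inter_subset_left fun g g1 => ⟨fun ⟨⟨z, hz, g2⟩, g3⟩ =>
    ⟨z, ⟨hz, h.cen g2.1 g1 (Subgroup.mem_centralizer_singleton_iff.1 g3).symm⟩, g2⟩, fun ⟨z, hz, g2⟩ =>
    ⟨⟨z, hz.1, g2⟩, Subgroup.mem_centralizer_singleton_iff.2 (by
      by_cases e : z = x
      · exact h.comm x g (e ▸ g2.1) a ha
      · exact h.aa e g2.1 ((mem_Gam.1 g2).2 x hx) ha hz.2)⟩⟩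
  obtain ⟨g, g1, g2⟩ := h.trG hW hx ho ha
  obtain ⟨b, b1, b2⟩ := h.surjψ hW hx ha hy ay (inv_mem g1)
  have bT : b ∈ h.T hW := ⟨y, hy, b1⟩
  have off : ∀ b ∈ h.T hW, ∀ o, o ∉ W → b • o ∉ W := fun b bT o ho e => ho (by
    have := h.Tfix hW (inv_mem bT) e
    rw [inv_smul_smul] at this
    rwa [this])
  have bo := off b bT o ho
  have ab : a • b • o = b • o := by
    calc _ = (a * b * a⁻¹ * b⁻¹) • b • a • o := by simp [mul_smul]
      _ = _ := by rw [b2, ← g2, ← mul_smul b, h.Tc hW bT ⟨x, hx, g1⟩, mul_smul, inv_smul_smul]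
  have oc := orb_card C (b • o)
  rw [show C ⊓ stabilizer G (b • o) = ⊥ from eq_bot_iff.2 fun g hg => h.Tsemi hW hg.1.1 bo hg.2, Subgroup.card_bot,
    mul_one] at oc
  refine ⟨(W ∩ {q | a • q = q}) ∪ orb C (b • o), Set.union_subset_union Set.inter_subset_left ?_,
    Set.union_subset Set.inter_subset_right ?_, ?_⟩
  · rintro _ ⟨c, hc, rfl⟩; exact ⟨c * b, mul_mem hc.1 bT, mul_smul _ _ _⟩
  · rintro _ ⟨c, hc, rfl⟩
    change a • c • b • o = _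
    rw [← mul_smul, ← Subgroup.mem_centralizer_singleton_iff.1 hc.2, mul_smul, ab]
  · rw [Set.ncard_union_eq (Set.disjoint_left.2 (by
      rintro _ h1 ⟨c, hc, rfl⟩
      exact off c hc.1 _ bo h1.1)), oc, c3]
    rw [c2, c3, ht y hy] at c1
    exact Nat.le_of_mul_le_mul_right (by nlinarith) t0

theorem cover {o q : X} (ho : o ∉ W) (hq : q ∉ W) : ∃ t ∈ h.T hW, t • o = q := by
  by_contra hc
  obtain ⟨x, hx, -⟩ := h.two hW o
  obtain ⟨a, a1, a2, a3⟩ := h.exA (show x ≠ q from fun e => hq (e ▸ hx))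
  obtain ⟨S, s1, s2, s3⟩ := h.big hW hx a1 ho
  have h1 := Set.ncard_le_ncard (Set.insert_subset (show q ∈ {q : X | a • q = q} from a3) s2)
  rw [Set.ncard_insert_of_notMem fun e => (s1 e).elim hq hc] at h1
  have := hW.2 x a a1 a2
  omega

theorem symO {x y : X} {r : G} (xy : x ≠ y) (hx : x ∈ W) (hy : y ∈ W) (hr : r ∈ N x) (ry : r • y ≠ y) :
    ∃ s ∈ N y, s • x = r • y := by
  obtain ⟨a, a1, a2⟩ := h.exG hW hx
  obtain ⟨b, b1, b2, b3⟩ := h.tri' hW xy hy a1 a2 hr ry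
  obtain ⟨s, s1, -, s3⟩ := (h.prod_aux hW xy.symm hx b1 b2).2 a a1 a2
  refine ⟨s, s1, by_contra fun ne => a2 (h.ti a1.1 ?_ xy)⟩
  rw [eq_inv_of_mul_eq_one_left (h.ti (h.Tc hW ⟨x, hx, a1⟩ ⟨y, hy, b1⟩ ▸ s3.1) b3.1 ne)]
  exact inv_mem b1.1

end

theorem hy_all {x : X} {a : G} (ha : a ∈ N x) (a1 : a ≠ 1) : Hy N {q | a • q = q} := by
  obtain ⟨W, hW⟩ := h.exists_hy
  refine ⟨⟨x, a, ha, a1, rfl⟩, fun y b hb b1 => (hW.2 y b hb b1).trans ?_⟩
  obtain ⟨z, hz, -⟩ := h.two hW x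
  obtain ⟨o, ho⟩ := h.exOff hW
  obtain ⟨w, -, wx⟩ := h.two hW x
  obtain ⟨g, rfl, -⟩ := h.tr2 x w z o wx.symm fun e => ho (e ▸ hz)
  obtain ⟨S, -, s2, s3⟩ := h.big hW hz (h.eqv g x a ha) ho
  refine s3.trans ((Set.ncard_le_ncard s2).trans (Set.ncard_le_ncard_of_injOn (fun q => g⁻¹ • q) (fun q hq => ?_)
    fun _ _ _ _ e => smul_left_cancel _ e))
  have : (g * a * g⁻¹) • q = q := hq
  rwa [mul_smul, mul_smul, ← eq_inv_smul_iff] at this

theorem lnO {x y z : X} (xy : y ≠ x) (e : Ln N y x z) (zy : z ≠ y) : ∃ r ∈ N y, r • x = z := by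
  by_cases zx : x = z
  · exact ⟨1, one_mem _, by rw [one_smul, zx]⟩
  obtain ⟨a0, a1, a2, a3⟩ := h.exA xy
  have hW := h.hy_all a1 a2
  have hy : y ∈ {q : X | a0 • q = q} := h.fix y a0 a1
  have hx : x ∈ {q : X | a0 • q = q} := a3
  have hz := h.lnW hW hy hx e
  obtain ⟨ρ, r1, r2⟩ := h.mv xy
  obtain ⟨b, b1, b2⟩ := h.exG hW hz
  obtain ⟨a, ha, e1⟩ := h.surjψ hW hy r1 hx r2 (h.cmG hW hy r1 ⟨z, hz, b1⟩)
  have e2 := cm_eq e1
  have k : ∀ u, Ln N y x u → y ≠ u → ρ • u ≠ u := fun u h1 h2 h3 => r2 ((h.repl xy h2 h1 x).2 (ln_r y x) ρ r1 h3)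
  by_cases a1' : a⁻¹ = 1
  · exact absurd (h.cen b1.1 b2 (by simpa [a1'] using e2)) (k z e zy.symm)
  obtain ⟨r, r3, -, r5⟩ := (h.prod_aux hW zx hz (inv_mem ha) a1').2 b b1 b2
  have c1 : a⁻¹ * b ≠ 1 := fun e' => b2 (h.ti (inv_mul_eq_one.1 e' ▸ ha.1) b1.1 zx)
  have := by_contra fun ne => k _ (h.sym xy (h.ln_N r3 (h.sym xy.symm e))) ne (h.cen r5.1 c1 e2)
  obtain ⟨s, s1, s2⟩ := h.symO hW xy.symm hx hy (inv_mem r3) (by rwa [this, inv_smul_smul, ← this])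
  exact ⟨s, s1, by rw [s2, this, inv_smul_smul]⟩

instance commT {W : Set X} (hW : Hy N W) : CommGroup (h.T hW) :=
  { (inferInstance : Group (h.T hW)) with mul_comm := fun a b => Subtype.ext (h.Tc hW a.2 b.2) }

theorem spread {W : Set X} (hW : Hy N W) {o : X} (ho : o ∉ W) :
    ∃ D, Spr (A := Additive (h.T hW)) (fun y : W => ((Gam N W y).subgroupOf (h.T hW)).toAddSubgroup) D
      fun x y z => Ln N x.1 y.1 z.1 := by
  let Rep : AddMonoid.End (Additive (h.T hW)) → G → Prop := fun a s =>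
    ∀ w, (a w).toMul.1 = s * w.toMul.1 * s⁻¹ * w.toMul.1⁻¹
  have ext : ∀ {u v : Additive (h.T hW)}, u.toMul.1 = v.toMul.1 → u = v := fun e =>
    Additive.toMul.injective (Subtype.ext e)
  have mc : ∀ x ∈ W, ∀ s ∈ N x, ∀ s' ∈ N x, ∀ w ∈ h.T hW,
      s * w * s⁻¹ * w⁻¹ * (s' * w * s'⁻¹ * w⁻¹) = s' * s * w * (s' * s)⁻¹ * w⁻¹ := fun x hx s hs s' hs' w hw => by
    have := h.comm x s' hs' _ (h.cmG hW hx hs hw).1
    calc _ = (s * w * s⁻¹ * w⁻¹ * s') * (w * s'⁻¹ * w⁻¹) := by group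
      _ = _ := by rw [← this]; group
  have rneg : ∀ x ∈ W, ∀ s ∈ N x, ∀ a, Rep a s → Rep (-a) s⁻¹ := fun x hx s hs a ha w => by
    change ((a w).toMul.1)⁻¹ = _
    rw [ha, inv_eq_iff_mul_eq_one, mc x hx s hs _ (inv_mem hs) _ w.toMul.2]; group
  have add1 : ∀ x ∈ W, ∀ s ∈ N x, ∀ a, Rep a s → ∀ w, (w + a w).toMul.1 = s * w.toMul.1 * s⁻¹ := fun x hx s hs a ha w => by
    rw [add_comm]
    change (a w).toMul.1 * w.toMul.1 = _
    rw [ha, inv_mul_cancel_right]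
  have ex : ∀ x ∈ W, ∀ s ∈ N x, ∃ a, Rep a s := fun x hx s hs =>
    ⟨AddMonoidHom.mk' (fun w => Additive.ofMul ⟨_, x, hx, h.cmG hW hx hs w.toMul.2⟩) fun u v => ext (by
      change s * (u.toMul.1 * v.toMul.1) * s⁻¹ * (u.toMul.1 * v.toMul.1)⁻¹ = s * u.toMul.1 * s⁻¹ * u.toMul.1⁻¹ *
        (s * v.toMul.1 * s⁻¹ * v.toMul.1⁻¹)
      rw [mul_assoc _ u.toMul.1⁻¹, h.Tc hW (inv_mem u.toMul.2) ⟨x, hx, h.cmG hW hx hs v.toMul.2⟩]; group), fun _ => rfl⟩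
  have adj : ∀ x ∈ W, ∀ r ∈ N x, ∃ s ∈ N x, s • o = o ∧ ∀ y ∈ W, s • y = r • y := fun x hx r hr => by
    obtain ⟨g, g1, g2⟩ := h.trG hW hx ho hr
    exact ⟨g⁻¹ * r, mul_mem (inv_mem g1.1) hr, by rw [mul_smul, ← g2, inv_smul_smul], fun y hy => by
      rw [mul_smul, (mem_Gam.1 (inv_mem g1)).2 _ (h.smulW hW hx hr hy)]⟩
  let D : W → AddSubgroup (AddMonoid.End (Additive (h.T hW))) := fun x =>
    { carrier := {a | ∃ s ∈ N x.1, s • o = o ∧ Rep a s}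
      zero_mem' := ⟨1, one_mem _, one_smul _ _, fun w => by simp⟩
      add_mem' := by
        rintro a b ⟨s, s1, s2, s3⟩ ⟨t, t1, t2, t3⟩
        refine ⟨t * s, mul_mem t1 s1, by rw [mul_smul, s2, t2], fun w => ?_⟩
        change (a w).toMul.1 * (b w).toMul.1 = _
        rw [s3, t3, mc x x.2 s s1 t t1 _ w.toMul.2]
      neg_mem' := by
        rintro a ⟨s, s1, s2, s3⟩
        exact ⟨s⁻¹, inv_mem s1, inv_smul_eq_iff.2 s2.symm, rneg x x.2 s s1 a s3⟩ }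
  refine ⟨D, fun w => ?_, fun {x y w} h1 h2 e => ext (h.ti h1.1 h2.1 fun e' => e (Subtype.ext e')), fun x => ?_,
    fun x => ?_, ?_, ?_, ?_, fun {x y} xy u hu w hw w0 => ?_, fun {x y z} xy xz e => ?_, fun {x y z} xy e => ?_,
    fun xy e => h.sym (fun e' => xy (Subtype.ext e'.symm)) e,
    fun xy xz e => (h.repl (fun e' => xy (Subtype.ext e')) (fun e' => xz (Subtype.ext e')) e _).2 (ln_r _ _)⟩
  · obtain ⟨y, hy, e⟩ := w.toMul.2
    exact ⟨⟨y, hy⟩, e⟩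
  · obtain ⟨b, b1, b2⟩ := h.exG hW x.2
    exact ⟨.ofMul ⟨b, x, x.2, b1⟩, b1, fun e => b2 (congrArg (fun w => w.toMul.1) e)⟩
  · obtain ⟨y, y1, y2⟩ := h.two hW x
    exact ⟨⟨y, y1⟩, fun e => y2 (congrArg Subtype.val e)⟩
  · rintro x a ⟨s, s1, -, s3⟩ w
    change (a w).toMul.1 ∈ Gam N W x
    rw [s3]; exact h.cmG hW x.2 s1 w.toMul.2
  · rintro x a ⟨s, s1, -, s3⟩ w hw
    exact ext (by rw [s3, h.comm x s s1 w.toMul.1 hw.1]; simp)
  · rintro x a ⟨s, s1, s2, s3⟩ y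
    refine ⟨⟨s • y, h.smulW hW x.2 s1 y.2⟩, fun w hw => ?_, ?_⟩
    · change (w + a w).toMul.1 ∈ Gam N W (s • y)
      rw [add1 x x.2 s s1 a s3]; exact h.gconj hW x.2 s1 hw
    · rintro b ⟨t, t1, t2, t3⟩
      refine ⟨s * t * s⁻¹, h.eqv s y t t1, by rw [mul_smul, mul_smul, inv_smul_eq_iff.2 s2.symm, t2, s2], fun w => ?_⟩
      rw [sub_eq_add_neg]
      change (b (w + (-a) w) + a (b (w + (-a) w))).toMul.1 = _
      rw [add1 x x.2 s s1 a s3, t3, add1 x x.2 _ (inv_mem s1) _ (rneg x x.2 s s1 a s3)]; group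
  · have xy' : x.1 ≠ y.1 := fun e => xy (Subtype.ext e)
    by_cases u1 : u.toMul.1 = 1
    · exact ⟨0, zero_mem _, ext u1.symm⟩
    obtain ⟨r, r1, -, r3⟩ := (h.prod_aux hW xy' y.2 hu u1).2 _ hw fun e => w0 (ext e)
    obtain ⟨s, s1, s2, s3⟩ := adj x x.2 r r1
    obtain ⟨a, ha⟩ := ex x x.2 s s1
    refine ⟨a, ⟨s, s1, s2, ha⟩, ext (mul_inv_eq_one.1 (h.ti (mul_mem (ha w ▸ (h.cmG hW x.2 s1 w.toMul.2).1)
      (inv_mem (mem_Gam.1 hu).1)) ?_ (h.ne_of_mem xy' r1).symm))⟩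
    have := mul_mem (s3 y y.2 ▸ h.eqv s y _ (mem_Gam.1 hw).1) (inv_mem (mem_Gam.1 r3).1)
    rw [ha]; simpa [mul_assoc] using this
  · obtain ⟨r, r1, r2⟩ := h.lnO (fun e' => xy (Subtype.ext e')) e fun e' => xz (Subtype.ext e'.symm)
    obtain ⟨s, s1, s2, s3⟩ := adj x x.2 r r1
    obtain ⟨a, ha⟩ := ex x x.2 s s1
    refine ⟨a, ⟨s, s1, s2, ha⟩, fun w hw => ?_⟩
    change (w + a w).toMul.1 ∈ Gam N W z
    rw [add1 x x.2 s s1 a ha, ← r2, ← s3 y y.2]; exact h.gconj hW x.2 s1 hw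
  · rintro a ⟨s, s1, s2, s3⟩
    have xy' : x.1 ≠ y.1 := fun e => xy (Subtype.ext e)
    have xz : x.1 ≠ z.1 := fun e' => e (e' ▸ h.ln_l x.1 y.1)
    obtain ⟨r, r1, r2, r3⟩ : ∃ r ∈ N x.1, r • y.1 = y.1 ∧ r • z.1 ≠ z.1 := by
      by_contra hc; push Not at hc; exact e hc
    obtain ⟨c, c1, c2, c3⟩ := adj x x.2 r r1
    have cz : c • z.1 ≠ z.1 := (c3 z z.2).symm ▸ r3
    obtain ⟨t, t1, t2⟩ := h.trG (h.hy_all c1 fun e => cz (by rw [e, one_smul])) (h.fix _ c c1) cz s1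
    obtain ⟨b, hb⟩ := ex x x.2 t t1.1
    refine ⟨b, ⟨t, t1.1, (mem_Gam.1 t1).2 o c2, hb⟩, fun w hw => ext ?_, fun w hw => ext ?_⟩
    · rw [hb, h.aa (b := w.toMul.1) xy' t1.1 ((mem_Gam.1 t1).2 y ((c3 y y.2).trans r2)) hw.1 ((mem_Gam.1 hw).2 x x.2)]; simp
    · have := h.aa (b := w.toMul.1) xz (mul_mem (inv_mem s1) (mem_Gam.1 t1).1) (by rw [mul_smul, t2, inv_smul_smul]) hw.1
        ((mem_Gam.1 hw).2 x x.2)
      rw [hb, s3]
      calc _ = s * (s⁻¹ * t * w.toMul.1) * t⁻¹ * w.toMul.1⁻¹ := by group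
        _ = _ := by rw [this]; group

theorem coords : ∃ (F : Type) (_ : Field F) (_ : Finite F) (n : ℕ) (vec : X → Fin n → F), 3 ≤ n ∧ (∀ x, vec x ≠ 0) ∧
    (∀ x y (c : F), vec x = c • vec y → x = y) ∧ (∀ v : Fin n → F, v ≠ 0 → ∃ x, ∃ c : F, v = c • vec x) ∧
    ∀ x y z, x ≠ y → (Ln N x y z ↔ Lin F vec x y z) := by
  classical
  obtain ⟨W, hW⟩ := h.exists_hy
  obtain ⟨o, ho⟩ := h.exOff hW
  obtain ⟨D, hD⟩ := h.spread hW ho
  obtain ⟨F, _, _, _, f1, f2⟩ := hD.exists_field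
  choose u u1 u2 using hD.ne
  have : ∀ q, q ∉ W → ∃ t : Additive (h.T hW), t.toMul.1 • o = q := fun q hq =>
    let ⟨t, t1, t2⟩ := h.cover hW ho hq; ⟨.ofMul ⟨t, t1⟩, t2⟩
  choose! τ hτ using this
  have off : ∀ t : Additive (h.T hW), t.toMul.1 • o ∉ W := fun t e => ho (by
    have := h.Tfix hW (inv_mem t.toMul.2) e
    rw [inv_smul_smul] at this
    rwa [this])
  have τi : ∀ t : Additive (h.T hW), τ (t.toMul.1 • o) = t := fun t => Additive.toMul.injective (Subtype.ext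
    (inv_mul_eq_one.1 (h.Tsemi hW (mul_mem (inv_mem t.toMul.2) (τ _).toMul.2) ho (by
      rw [mul_smul, hτ _ (off t), inv_smul_smul]))).symm)
  let v : X → F × Additive (h.T hW) := fun q => if e : q ∈ W then (0, u ⟨q, e⟩) else (1, τ q)
  have vW : ∀ q (e : q ∈ W), v q = (0, u ⟨q, e⟩) := fun q e => dif_pos e
  have vO : ∀ q, q ∉ W → v q = (1, τ q) := fun q e => dif_neg e
  have v0 : ∀ q, v q ≠ 0 := fun q e => by
    by_cases e' : q ∈ W
    · exact u2 _ (congrArg Prod.snd ((vW q e').symm.trans e))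
    · exact one_ne_zero (congrArg Prod.fst ((vO q e').symm.trans e))
  have ueq : ∀ (x y : W) (c : F), u x = c • u y → x = y := fun x y c e =>
    by_contra fun ne => u2 x (hD.disj (u1 x) (e ▸ f1 y c _ (u1 y)) ne)
  have inj : ∀ x y (c : F), v x = c • v y → x = y := fun x y c e => by
    by_cases hx : x ∈ W <;> by_cases hy : y ∈ W
    · rw [vW x hx, vW y hy] at e
      exact congrArg Subtype.val (ueq _ _ c (congrArg Prod.snd e))
    · rw [vW x hx, vO y hy, Prod.ext_iff] at e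
      simp only [Prod.smul_mk, smul_eq_mul, mul_one] at e
      exact absurd (by rw [e.2, ← e.1, zero_smul]) (u2 ⟨x, hx⟩)
    · rw [vO x hx, vW y hy] at e
      simpa using congrArg Prod.fst e
    · rw [vO x hx, vO y hy, Prod.ext_iff] at e
      simp only [Prod.smul_mk, smul_eq_mul, mul_one] at e
      rw [← hτ x hx, ← hτ y hy, e.2, ← e.1, one_smul]
  have surj : ∀ w : F × Additive (h.T hW), w ≠ 0 → ∃ x, ∃ c : F, w = c • v x := fun ⟨c, t⟩ e => by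
    by_cases c0 : c = 0
    · obtain ⟨y, hy⟩ := hD.cover t
      obtain ⟨d, rfl⟩ := f2 y _ (u1 y) (u2 y) t hy
      exact ⟨y, d, by rw [vW y y.2, c0]; simp⟩
    · exact ⟨(c⁻¹ • t).toMul.1 • o, c, by rw [vO _ (off _), τi]; simp [c0]⟩
  have base : ∀ x ∈ W, ∀ y z, x ≠ y → (Ln N x y z ↔ Lin F v x y z) := fun x hx y z xy => by
    by_cases zx : z = x
    · exact iff_of_true (zx ▸ h.ln_l _ y) ⟨1, 0, by simp [zx]⟩
    by_cases zy : z = y
    · exact iff_of_true (zy ▸ ln_r _ _) ⟨0, 1, by simp [zy]⟩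
    by_cases hy : y ∈ W
    · refine ⟨fun e => ?_, fun ⟨α, β, e⟩ => ?_⟩
      · obtain ⟨r, r1, rfl⟩ := h.lnO xy e zx
        have hz := h.smulW hW hx r1 hy
        obtain ⟨b, b1, -, b3⟩ := h.tri' hW xy hy (u1 ⟨x, hx⟩) (fun e => u2 _ (Additive.toMul.injective (Subtype.ext e)))
          r1 zy
        obtain ⟨β, hβ⟩ := f2 ⟨y, hy⟩ _ (u1 _) (u2 _) (.ofMul ⟨b, y, hy, b1⟩) b1
        obtain ⟨c, hc⟩ := f2 ⟨_, hz⟩ (u ⟨x, hx⟩ + .ofMul ⟨b, y, hy, b1⟩) b3 (fun e => u2 _ (hD.disj (u1 ⟨x, hx⟩)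
          (y := ⟨y, hy⟩) (by rw [eq_neg_of_add_eq_zero_left e]; exact neg_mem b1) fun e => xy (congrArg Subtype.val e)))
          _ (u1 _)
        exact ⟨c, c * β, by rw [vW _ hz, vW x hx, vW y hy, ← hc, ← hβ]; simp [smul_smul]⟩
      · rw [vW x hx, vW y hy] at e
        have hz : z ∈ W := by_contra fun hz => by simpa [vO z hz] using congrArg Prod.fst e
        have e' : u ⟨z, hz⟩ = α • u ⟨x, hx⟩ + β • u ⟨y, hy⟩ := by simpa [vW z hz] using congrArg Prod.snd e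
        have a0 : α • u ⟨x, hx⟩ ≠ 0 := fun e0 => zy (congrArg Subtype.val (ueq _ ⟨y, hy⟩ β (by rw [e', e0, zero_add])))
        have b0 : β • u ⟨y, hy⟩ ≠ 0 := fun e0 => zx (congrArg Subtype.val (ueq _ ⟨x, hx⟩ α (by rw [e', e0, add_zero])))
        obtain ⟨r, r1, -, r3⟩ := (h.prod_aux hW xy hy (f1 ⟨x, hx⟩ α _ (u1 _)) fun e =>
          a0 (Additive.toMul.injective (Subtype.ext e))).2 _ (f1 ⟨y, hy⟩ β _ (u1 _)) fun e =>
          b0 (Additive.toMul.injective (Subtype.ext e))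
        have : z = r • y := congrArg Subtype.val (by_contra fun ne : ¬ (⟨z, hz⟩ : W) = ⟨_, h.smulW hW hx r1 hy⟩ =>
          u2 _ (hD.disj (u1 _) (e' ▸ r3) ne))
        exact this ▸ h.ln_N r1 (ln_r x y)
    · refine ⟨fun e => ?_, fun ⟨α, β, e⟩ => ?_⟩
      · obtain ⟨r, r1, rfl⟩ := h.lnO xy e zx
        obtain ⟨g, g1, g2⟩ := h.trG hW hx hy r1
        obtain ⟨α, hα⟩ := f2 ⟨x, hx⟩ _ (u1 _) (u2 _) (.ofMul ⟨g, x, hx, g1⟩) g1
        have e1 : r • y = (α • u ⟨x, hx⟩ + τ y).toMul.1 • o := by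
          rw [hα, ← g2, ← congrArg (g • ·) (hτ y hy), ← mul_smul]; rfl
        exact ⟨α, 1, by rw [e1, vO _ (off _), τi, vW x hx, vO y hy]; simp⟩
      · rw [vW x hx, vO y hy] at e
        by_cases hz : z ∈ W
        · rw [vW z hz, Prod.ext_iff] at e
          simp only [Prod.smul_mk, smul_eq_mul, mul_zero, mul_one, Prod.mk_add_mk, zero_add] at e
          exact absurd (congrArg Subtype.val (ueq ⟨z, hz⟩ ⟨x, hx⟩ α (by rw [e.2, ← e.1, zero_smul, add_zero]))) zx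
        rw [vO z hz, Prod.ext_iff] at e
        simp only [Prod.smul_mk, smul_eq_mul, mul_zero, mul_one, Prod.mk_add_mk, zero_add] at e
        have e1 : z = (α • u ⟨x, hx⟩).toMul.1 • y := by
          rw [← hτ z hz, e.2, ← e.1, one_smul, ← congrArg (_ • ·) (hτ y hy), ← mul_smul]; rfl
        exact e1 ▸ h.ln_N (f1 ⟨x, hx⟩ α _ (u1 _)).1 (ln_r x y)
  have ls : ∀ x y z, Lin F v x y z → Lin F v y x z := fun x y z ⟨α, β, e⟩ => ⟨β, α, e.trans (add_comm _ _)⟩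
  have lt : ∀ x y w z, Lin F v x y w → Lin F v x w z → Lin F v x y z := fun x y w z ⟨α, β, e⟩ ⟨γ, δ, e'⟩ =>
    ⟨γ + δ * α, δ * β, by rw [e', e]; module⟩
  have l2 : ∀ x y w, w ≠ x → Lin F v x y w → Lin F v x w y := fun x y w wx ⟨α, β, e⟩ => by
    have b0 : β ≠ 0 := by rintro rfl; exact wx (inj _ _ α (by simpa using e))
    exact ⟨- α / β, β⁻¹, by rw [e]; match_scalars <;> field_simp <;> ring⟩
  have lc : ∀ x y z, x ≠ y → (Ln N x y z ↔ Lin F v x y z) := fun x y z xy => by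
    by_cases hx : x ∈ W
    · exact base x hx y z xy
    have k : ∀ w ∈ W, Ln N x w z ↔ Lin F v x w z := fun w hw =>
      have xw : x ≠ w := fun e => hx (e ▸ hw)
      ⟨fun e => ls _ _ _ ((base w hw x z xw.symm).1 (h.sym xw.symm e)),
        fun e => h.sym xw ((base w hw x z xw.symm).2 (ls _ _ _ e))⟩
    by_cases hy : y ∈ W
    · exact k y hy
    obtain ⟨t, ⟨w, hw, t1⟩, rfl⟩ := h.cover hW hx hy
    have xw : x ≠ w := fun e => hx (e ▸ hw)
    have h1 : Ln N x w (t • x) := h.sym xw (h.ln_N t1.1 (ln_r w x))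
    rw [h.repl xw xy h1, k w hw]
    have h3 : Lin F v x w (t • x) := ls _ _ _ ((base w hw x _ xw.symm).1 (h.ln_N t1.1 (ln_r w x)))
    exact ⟨lt _ _ _ _ (l2 _ _ _ xy.symm h3), lt _ _ _ _ h3⟩
  haveI : Module.Finite F (F × Additive (h.T hW)) := Module.Finite.of_finite
  haveI : Module.Finite F (Additive (h.T hW)) := Module.Finite.of_finite
  let e := (Module.finBasis F (F × Additive (h.T hW))).equivFun
  refine ⟨F, inferInstance, inferInstance, _, fun x => e (v x), ?_, fun x => by simpa using v0 x,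
    fun x y c e' => inj x y c (e.injective (by simpa using e')), fun w hw => ?_, fun x y z xy => (lc x y z xy).trans
      ⟨fun ⟨α, β, e'⟩ => ⟨α, β, by simp [e']⟩, fun ⟨α, β, e'⟩ => ⟨α, β, e.injective (by simpa using e')⟩⟩⟩
  · rw [Module.finrank_prod, Module.finrank_self]
    by_contra hc
    obtain ⟨w, hw⟩ := finrank_le_one_iff.1 (show Module.finrank F (Additive (h.T hW)) ≤ 1 by omega)
    obtain ⟨z, hz⟩ := hD.cover w
    obtain ⟨x, hx⟩ := hD.two z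
    obtain ⟨c, hc⟩ := hw (u x)
    exact u2 x (hD.disj (u1 x) (hc ▸ f1 z c w hz) hx)
  · obtain ⟨x, c, e'⟩ := surj (e.symm w) (by simpa using hw)
    exact ⟨x, c, by rw [← map_smul, ← e', e.apply_symm_apply]⟩

theorem core : ∃ (L : Subgroup G) (F : Type) (_ : Field F) (_ : Fintype F) (n : ℕ), 3 ≤ n ∧ L.Normal ∧
    Subgroup.centralizer (L : Set G) = ⊥ ∧ Nonempty (L ≃* Matrix.ProjectiveSpecialLinearGroup (Fin n) F) ∧
    Nat.card X * (Fintype.card F - 1) = Fintype.card F ^ n - 1 := by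
  obtain ⟨F, _, _, n, vec, n3, v0, inj, surj, lc⟩ := h.coords
  have ne1 : ∀ {a : G} {p : X}, a • p ≠ p → a ≠ 1 := fun e e' => e (by rw [e', one_smul])
  obtain ⟨L, h1, h2, h3, h4⟩ := final N v0 inj surj h.faith h.eqv h.fix
    (fun g x y z xy e => (lc _ _ _ fun e' => xy (smul_left_cancel g e')).1 (h.ln_smul g ((lc _ _ _ xy).2 e)))
    (fun x a ha y => by
      by_cases e : x = y
      · exact ⟨1, 0, by simp [← e, h.fix x a ha]⟩
      · exact (lc _ _ _ e).1 (h.ln_N ha (ln_r x y)))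
    (fun x a ha y z w e1 e2 yz e => by
      by_cases a1 : a = 1
      · rw [a1, one_smul]
      · exact h.lnW (h.hy_all ha a1) e1 e2 ((lc _ _ _ yz).2 e))
    (fun x a ha p r e1 e2 rp => by
      obtain ⟨t, ⟨u, hu, t1⟩, rfl⟩ := h.cover (h.hy_all ha (ne1 e1)) e1 e2
      have pu : p ≠ u := fun e => e1 (e ▸ hu)
      exact ⟨u, hu, (lc _ _ _ rp.symm).1 ((h.repl pu rp.symm (h.sym pu (h.ln_N t1.1 (ln_r u p))) u).2 (ln_r p u))⟩)
    (fun x a ha p r e1 e2 rx => by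
      have xp : x ≠ p := fun e => e1 (e ▸ h.fix x a ha)
      obtain ⟨s, s1, rfl⟩ := h.lnO xp ((lc _ _ _ xp).2 e2) rx
      obtain ⟨g, g1, g2⟩ := h.trG (h.hy_all ha (ne1 e1)) (h.fix x a ha) e1 s1
      exact ⟨g, g1.1, (mem_Gam.1 g1).2, g2⟩)
    (fun x y e => h.mv e.symm) fun x a ha => by
      by_cases a1 : a = 1
      · obtain ⟨W, hW⟩ := h.exists_hy
        obtain ⟨z, -, hz⟩ := h.two hW x
        exact ⟨z, hz, by rw [a1, one_smul]⟩
      · obtain ⟨z, z1, z2⟩ := h.two (h.hy_all ha a1) x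
        exact ⟨z, z2, z1⟩
  cases nonempty_fintype F
  exact ⟨L, F, inferInstance, inferInstance, n, n3, h1, h2, h3, by rwa [Nat.card_eq_fintype_card (α := F)] at h4⟩

end ON

end Cfsg.Agent.ONan
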