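import Mathlib
import Cfsg.Agent.ONan.Main

/-! O'Nan's theorem from a single normal subgroup of a point stabiliser: `fam`, `fam_Fam`, `core_ab`. -/

set_option autoImplicit false

namespace Cfsg.Agent.ONan

open MulAction Plane

variable {G X : Type*} [Group G] [MulAction G X]

/-- The conjugate of `N ⊴ G_x` belonging to the point `z`. -/
def fam (x : X) (N : Subgroup G) (z : X) : Subgroup G where
  carrier := {g | ∀ k : G, k • x = z → k⁻¹ * g * k ∈ N}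
  mul_mem' := fun {a b} ha hb k hk => by
    have := N.mul_mem (ha k hk) (hb k hk)
    simpa [mul_assoc] using this
  one_mem' := fun k _ => by simp
  inv_mem' := fun {a} ha k hk => by
    have := N.inv_mem (ha k hk)
    simpa [mul_assoc] using this

theorem mem_fam_self {x : X} {N : Subgroup G} (hn : ∀ g ∈ stabilizer G x, ∀ n ∈ N, g * n * g⁻¹ ∈ N) {a : G} :
    a ∈ fam x N x ↔ a ∈ N :=
  ⟨fun h => by simpa using h 1 (one_smul _ _), fun h k hk => by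
    simpa using hn k⁻¹ (inv_mem (show k ∈ stabilizer G x from hk)) a h⟩

theorem tr2_of (h2 : IsMultiplyPretransitive G X 2) : Tr2 G X := fun _ _ _ _ e e' =>
  is_two_pretransitive_iff.1 h2 e e'

theorem Tr2_tr (h : Tr2 G X) {x y : X} (e : x ≠ y) (z w : X) : ∃ g : G, g • z = w := by
  have k : ∀ z : X, ∃ c, z ≠ c := fun z => by
    by_cases h1 : z = x
    exacts [⟨y, h1 ▸ e⟩, ⟨x, h1⟩]
  obtain ⟨c, hc⟩ := k z
  obtain ⟨d, hd⟩ := k w
  obtain ⟨g, hg, -⟩ := h z c w d hc hd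
  exact ⟨g, hg⟩

theorem fam_Fam (h2 : Tr2 G X) (faith : ∀ g : G, (∀ x : X, g • x = x) → g = 1) {x : X} {N : Subgroup G}
    (hle : N ≤ stabilizer G x) (hn : ∀ g ∈ stabilizer G x, ∀ n ∈ N, g * n * g⁻¹ ∈ N)
    (nsr : ∃ n ∈ N, n ≠ 1 ∧ ∃ y : X, y ≠ x ∧ n • y = y) : Fam (fam x N) := by
  obtain ⟨n, n1, n2, y, y1, y2⟩ := nsr
  refine ⟨h2, faith, fun g z a ha k hk => ?_, fun z a ha => ?_, x, y, y1.symm, n, (mem_fam_self hn).2 n1, n2, y2⟩
  · have := ha (g⁻¹ * k) (by rw [mul_smul, hk, inv_smul_smul])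
    simpa [mul_assoc] using this
  · obtain ⟨k, rfl⟩ := Tr2_tr h2 y1 x z
    have : (k⁻¹ * a * k) • x = x := hle (ha k rfl)
    rw [mul_smul, mul_smul, inv_smul_eq_iff] at this
    exact this

theorem core_ab [Finite G] [Finite X] (h2 : Tr2 G X) (faith : ∀ g : G, (∀ x : X, g • x = x) → g = 1) {x : X}
    {N : Subgroup G} (hle : N ≤ stabilizer G x) (hn : ∀ g ∈ stabilizer G x, ∀ n ∈ N, g * n * g⁻¹ ∈ N)
    (ab : ∀ a ∈ N, ∀ b ∈ N, a * b = b * a) (nsr : ∃ n ∈ N, n ≠ 1 ∧ ∃ y : X, y ≠ x ∧ n • y = y) :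
    ∃ (L : Subgroup G) (F : Type) (_ : Field F) (_ : Fintype F) (n : ℕ), 3 ≤ n ∧ L.Normal ∧
      Subgroup.centralizer (L : Set G) = ⊥ ∧ Nonempty (L ≃* Matrix.ProjectiveSpecialLinearGroup (Fin n) F) ∧
      Nat.card X * (Fintype.card F - 1) = Fintype.card F ^ n - 1 := by
  obtain ⟨n, n1, n2, y, y1, y2⟩ := nsr
  obtain ⟨p, pp, m, hm⟩ := Nat.exists_prime_and_dvd (orderOf_eq_one_iff.not.2 n2)
  have o0 : 0 < orderOf n := orderOf_pos n
  let M : Subgroup G :=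
    { carrier := {g | g ∈ N ∧ g ^ p = 1}
      mul_mem' := fun {a b} ha hb => ⟨N.mul_mem ha.1 hb.1, by
        rw [Commute.mul_pow (ab a ha.1 b hb.1), ha.2, hb.2, one_mul]⟩
      one_mem' := ⟨N.one_mem, one_pow _⟩
      inv_mem' := fun {a} ha => ⟨N.inv_mem ha.1, by rw [inv_pow, ha.2, inv_one]⟩ }
  have hM : ∀ g ∈ stabilizer G x, ∀ n ∈ M, g * n * g⁻¹ ∈ M := fun g hg a ha =>
    ⟨hn g hg a ha.1, by rw [conj_pow, ha.2, mul_one, mul_inv_cancel]⟩
  have hF : Fam (fam x M) := fam_Fam h2 faith (fun a ha => hle ha.1) hM ⟨n ^ m, ⟨pow_mem n1 _, by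
    rw [← pow_mul, mul_comm, ← hm, pow_orderOf_eq_one]⟩, fun e => by
      have h1 := Nat.le_of_dvd (Nat.pos_of_mul_pos_left (hm ▸ o0)) (orderOf_dvd_of_pow_eq_one e)
      have := pp.two_le
      have : 0 < m := Nat.pos_of_mul_pos_left (hm ▸ o0)
      nlinarith, y, y1, pow_mem (show n ∈ stabilizer G y from y2) m⟩
  refine ON.core (p := p) ⟨hF, fun z a ha b hb => ?_, pp, fun z a => ⟨1, Subtype.ext ?_⟩⟩
  · obtain ⟨k, rfl⟩ := Tr2_tr h2 y1 x z
    have := ab _ (ha k rfl).1 _ (hb k rfl).1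
    simp only [mul_assoc, mul_inv_cancel_left, mul_right_inj] at this
    simpa [← mul_assoc] using this
  · obtain ⟨k, rfl⟩ := Tr2_tr h2 y1 x z
    have := (a.2 k rfl).2
    rw [show k⁻¹ * a.1 * k = k⁻¹ * a.1 * k⁻¹⁻¹ by simp, conj_pow] at this
    simpa using conj_eq_one_iff.1 this

end Cfsg.Agent.ONan
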