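import Cfsg.Agent.Plane.Count

/-! O'Nan's geometry: a 2-transitive group with an abelian normal `p`-subgroup `N x` of the point stabiliser which
is not semiregular (`ON`). Lines `Ln`, hyperplanes `Hy`, groups `Gam`, `ON.T`. -/

set_option autoImplicit false

namespace Cfsg.Agent.ONan

open MulAction Plane

variable {G X : Type*} [Group G] [MulAction G X]

theorem card_conj (g : G) {H K : Subgroup G} (h1 : ∀ a ∈ H, g * a * g⁻¹ ∈ K) (h2 : ∀ a ∈ K, g⁻¹ * a * g⁻¹⁻¹ ∈ H) :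
    Nat.card H = Nat.card K := by
  refine Nat.card_congr ⟨fun x => ⟨_, h1 _ x.2⟩, fun x => ⟨_, h2 _ x.2⟩, fun x => ?_, fun x => ?_⟩ <;>
    exact Subtype.ext (by simp [mul_assoc])

theorem fix2 [Finite G] [Finite X] {p : ℕ} (hp : p.Prime) {P : Subgroup G} (hP : IsPGroup p P) {S : Set X}
    (hS : ∀ g ∈ P, ∀ x ∈ S, g • x ∈ S) (hd : p ∣ S.ncard) {y : X} (hy : y ∈ S) (fy : ∀ g ∈ P, g • y = y) :
    ∃ z ∈ S, z ≠ y ∧ ∀ g ∈ P, g • z = z := by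
  haveI := Fact.mk hp
  by_contra hc
  push Not at hc
  have h1 := dvd_of_orb P p _ (S \ {y}) rfl (fun g hg x hx => ⟨hS g hg x hx.1, fun e => hx.2
    (smul_left_cancel g (e.trans (fy g hg).symm))⟩) fun x hx => by
      obtain ⟨k, hk⟩ := hP.exists_card_eq
      obtain ⟨i, -, hi⟩ := (Nat.dvd_prime_pow hp).1 (hk ▸ Dvd.intro _ (orb_card P x))
      rcases i with _ | i
      · obtain ⟨g, g1, g2⟩ := hc x hx.1 hx.2
        obtain ⟨w, hw⟩ := Set.ncard_eq_one.1 hi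
        exact absurd ((hw.le ⟨g, g1, rfl⟩).trans (hw.le ⟨1, one_mem _, one_smul _ _⟩).symm) g2
      · rw [hi]; exact dvd_pow_self p (by omega)
  have h2 := Set.ncard_diff_singleton_add_one hy
  exact hp.one_lt.ne' (Nat.dvd_one.1 ((Nat.dvd_add_right h1).1 (h2 ▸ hd)))

/-- An equivariant family of normal subgroups of point stabilisers. -/
structure Fam (N : X → Subgroup G) : Prop where
  tr2 : Tr2 G X
  faith : ∀ g : G, (∀ x : X, g • x = x) → g = 1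
  eqv : ∀ (g : G) x, ∀ a ∈ N x, g * a * g⁻¹ ∈ N (g • x)
  fix : ∀ x, ∀ a ∈ N x, a • x = x
  nsr : ∃ x y, x ≠ y ∧ ∃ a ∈ N x, a ≠ 1 ∧ a • y = y

/-- The situation of O'Nan's theorem. -/
structure ON (N : X → Subgroup G) (p : ℕ) : Prop extends Fam N where
  comm : ∀ x, ∀ a ∈ N x, ∀ b ∈ N x, a * b = b * a
  pp : p.Prime
  pg : ∀ x, IsPGroup p (N x)

/-- `w` is on the line through `x` and `y`. -/
def Ln (N : X → Subgroup G) (x y w : X) : Prop := ∀ a ∈ N x, a • y = y → a • w = w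

variable {N : X → Subgroup G} {p : ℕ}

namespace Fam
variable (h : Fam N)
include h

theorem eqv' (g : G) (x : X) (a : G) (ha : a ∈ N (g • x)) : g⁻¹ * a * g⁻¹⁻¹ ∈ N x := by
  simpa using h.eqv g⁻¹ _ a ha

theorem cardA {x y x' y' : X} (e : x ≠ y) (e' : x' ≠ y') :
    Nat.card (N x ⊓ stabilizer G y : Subgroup G) = Nat.card (N x' ⊓ stabilizer G y' : Subgroup G) := by
  obtain ⟨g, rfl, rfl⟩ := h.tr2 x y x' y' e e'
  exact card_conj g (fun a ha => ⟨h.eqv g x a ha.1, by simp [mul_smul, show a • y = y from ha.2]⟩)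
    fun a ha => ⟨h.eqv' g x a ha.1, by simp [mul_smul, show a • g • y = g • y from ha.2]⟩

theorem cardI {x y x' y' : X} (e : x ≠ y) (e' : x' ≠ y') :
    Nat.card (N x ⊓ N y : Subgroup G) = Nat.card (N x' ⊓ N y' : Subgroup G) := by
  obtain ⟨g, rfl, rfl⟩ := h.tr2 x y x' y' e e'
  exact card_conj g (fun a ha => ⟨h.eqv g x a ha.1, h.eqv g y a ha.2⟩) fun a ha => ⟨h.eqv' g x a ha.1, h.eqv' g y a ha.2⟩

theorem cardO [Finite G] {x y x' y' : X} (e : x ≠ y) (e' : x' ≠ y') : (orb (N x) y).ncard = (orb (N x') y').ncard := by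
  have h1 := orb_card (N x) y
  have h2 := orb_card (N x') y'
  rw [h.cardA e e'] at h1
  obtain ⟨g, rfl, rfl⟩ := h.tr2 x y x' y' e e'
  exact Nat.eq_of_mul_eq_mul_right Nat.card_pos (h1.trans ((card_conj g (h.eqv g x) (h.eqv' g x)).trans h2.symm))

theorem exA {x y : X} (e : x ≠ y) : ∃ a ∈ N x, a ≠ 1 ∧ a • y = y := by
  obtain ⟨x', y', e', a, a1, a2, a3⟩ := h.nsr
  obtain ⟨g, rfl, rfl⟩ := h.tr2 x' y' x y e' e
  exact ⟨_, h.eqv g x' a a1, by simpa using a2, by simp [mul_smul, a3]⟩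

theorem mv {x y : X} (e : x ≠ y) : ∃ a ∈ N x, a • y ≠ y := by
  by_contra hc
  push Not at hc
  obtain ⟨a, a1, a2, -⟩ := h.exA e
  refine a2 (h.faith a fun w => ?_)
  by_cases e' : x = w
  · exact e' ▸ h.fix x a a1
  obtain ⟨g, g1, rfl⟩ := h.tr2 x y x w e e'
  have := hc _ (h.eqv' g x a (g1.symm ▸ a1))
  rwa [inv_inv, mul_smul, mul_smul, inv_smul_eq_iff] at this

theorem ln_smul {x y w : X} (g : G) (e : Ln N x y w) : Ln N (g • x) (g • y) (g • w) := fun a ha hy => by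
  have := e _ (h.eqv' g x a ha) (by simp [mul_smul, hy])
  rwa [inv_inv, mul_smul, mul_smul, inv_smul_eq_iff] at this

theorem A_eq [Finite G] {x y w : X} (xy : x ≠ y) (xw : x ≠ w) (e : Ln N x y w) :
    (N x ⊓ stabilizer G y : Subgroup G) = N x ⊓ stabilizer G w :=
  Subgroup.eq_of_le_of_card_ge (fun a ha => ⟨ha.1, e a ha.1 ha.2⟩) (h.cardA xw xy).le

theorem repl [Finite G] {x y w : X} (xy : x ≠ y) (xw : x ≠ w) (e : Ln N x y w) (z : X) : Ln N x w z ↔ Ln N x y z :=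
  ⟨fun h1 a ha hy => h1 a ha (e a ha hy), fun h1 a ha hw => h1 a ha ((h.A_eq xy xw e).ge ⟨ha, hw⟩).2⟩

theorem cmN {x : X} {r t : G} (hr : r ∈ N x) (ht : t • x = x) : r * t * r⁻¹ * t⁻¹ ∈ N x := by
  have := h.eqv t x _ (inv_mem hr)
  rw [ht] at this
  simpa only [mul_assoc] using mul_mem hr this

theorem ln_l (x y : X) : Ln N x y x := fun a ha _ => h.fix x a ha

theorem ne_of_mem {x y : X} {a : G} (e : x ≠ y) (ha : a ∈ N x) : a • y ≠ x :=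
  fun e' => e (smul_left_cancel a ((h.fix x a ha).trans e'.symm))

end Fam

theorem ln_r (x y : X) : Ln N x y y := fun _ _ e => e

namespace ON
variable [Finite G] [Finite X] (h : ON N p)
include h

theorem ti {x y : X} {d : G} (hx : d ∈ N x) (hy : d ∈ N y) (e : x ≠ y) : d = 1 := h.faith d fun w => by
  by_contra hw
  have nw : d ∉ N w := fun e => hw (h.fix w d e)
  have xw : x ≠ w := fun e => nw (e ▸ hx)
  have yw : y ≠ w := fun e => nw (e ▸ hy)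
  have k : ∀ z, d ∈ N z → z ≠ w → (N z ⊓ N w : Subgroup G) = N w ⊓ N (d • w) := fun z hz zw =>
    Subgroup.eq_of_le_of_card_ge (fun a ha => ⟨ha.2, by simpa [h.comm z d hz a ha.1] using h.eqv d w a ha.2⟩)
      (h.cardI (Ne.symm hw) zw).le
  have : (N x ⊓ N w : Subgroup G) = N x ⊓ N y := Subgroup.eq_of_le_of_card_ge
    (fun a ha => ⟨ha.1, (((k x hx xw).trans (k y hy yw).symm).le ha).1⟩) (h.cardI e xw).le
  exact nw (this.ge ⟨hx, hy⟩).2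

theorem cen {x : X} {a g : G} (ha : a ∈ N x) (a1 : a ≠ 1) (e : g * a = a * g) : g • x = x :=
  by_contra fun e' => a1 (h.ti (by simpa [e] using h.eqv g x a ha) ha e')

theorem aa {x y : X} {a b : G} (e : x ≠ y) (ha : a ∈ N x) (ay : a • y = y) (hb : b ∈ N y) (bx : b • x = x) :
    a * b = b * a := by
  have h1 : a * b * a⁻¹ * b⁻¹ ∈ N y := mul_mem (by simpa [ay] using h.eqv a y b hb) (inv_mem hb)
  have h2 : a * (b * a⁻¹ * b⁻¹) ∈ N x := mul_mem ha (by simpa [bx] using h.eqv b x _ (inv_mem ha))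
  have := h.ti h2 (by simpa [mul_assoc] using h1) e
  calc a * b = (a * (b * a⁻¹ * b⁻¹)) * (b * a) := by group
    _ = b * a := by rw [this, one_mul]

theorem cm_inj {y : X} {u b c : G} (hu : u • y ≠ y) (hb : b ∈ N y) (hc : c ∈ N y)
    (e : u * b * u⁻¹ * b⁻¹ = u * c * u⁻¹ * c⁻¹) : b = c := by
  by_contra ne
  refine hu (h.cen (mul_mem (inv_mem hc) hb) (fun e' => ne (inv_mul_eq_one.1 e').symm) ?_)
  calc u * (c⁻¹ * b) = u * (c⁻¹ * (u⁻¹ * (u * b * u⁻¹ * b⁻¹) * b * u)) := by group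
    _ = c⁻¹ * b * u := by rw [e]; group

theorem sym {x y w : X} (xy : x ≠ y) (e : Ln N y x w) : Ln N x y w := by
  haveI := Fact.mk h.pp
  by_cases xw : x = w
  · exact xw ▸ h.ln_l x y
  refine (h.repl xw xy (fun u0 hu0 uw => by_contra fun ne => ?_) w).2 (ln_r x w)
  set A : Subgroup G := N x ⊓ stabilizer G w
  have hd : p ∣ (orb A y).ncard := by
    obtain ⟨k, hk⟩ := ((h.pg x).to_le (inf_le_left : A ≤ N x)).exists_card_eq
    obtain ⟨i, -, hi⟩ := (Nat.dvd_prime_pow h.pp).1 (hk ▸ Dvd.intro _ (orb_card A y))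
    rcases i with _ | i
    · obtain ⟨z, hz⟩ := Set.ncard_eq_one.1 hi
      exact absurd ((hz.le ⟨u0, ⟨hu0, uw⟩, rfl⟩).trans (hz.le ⟨1, one_mem _, one_smul _ _⟩).symm) ne
    · rw [hi]; exact dvd_pow_self p (by omega)
  have cj : ∀ b ∈ N y ⊓ stabilizer G x, ∀ u ∈ A, b * u * b⁻¹ ∈ A := fun b hb u hu =>
    Subgroup.mem_inf.2 ⟨by simpa [show b • x = x from hb.2] using h.eqv b x u hu.1, by
      have : b⁻¹ • w = w := inv_smul_eq_iff.2 (e b hb.1 hb.2).symm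
      rw [mem_stabilizer_iff, mul_smul, mul_smul, this, show u • w = w from hu.2, e b hb.1 hb.2]⟩
  obtain ⟨_, ⟨u, hu, rfl⟩, u1, u2⟩ := fix2 h.pp ((h.pg y).to_le (inf_le_left : N y ⊓ stabilizer G x ≤ N y))
    (S := orb A y) (by
      rintro b hb _ ⟨u, hu, rfl⟩
      exact ⟨_, cj b hb u hu, by rw [mul_smul, mul_smul, inv_smul_eq_iff.2 (h.fix y b hb.1).symm]⟩) hd
    ⟨1, one_mem _, one_smul _ _⟩ fun g hg => h.fix y g hg.1
  have h1 : Nat.card (N y ⊓ stabilizer G x : Subgroup G) ≤ Nat.card (A ⊓ stabilizer G y : Subgroup G) :=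
    Nat.card_le_card_of_injective (fun b => ⟨u⁻¹ * b * u⁻¹⁻¹ * b.1⁻¹, Subgroup.mem_inf.2 ⟨by
      simpa [mul_assoc] using mul_mem (inv_mem hu) (cj b b.2 u hu), by
      rw [mem_stabilizer_iff, inv_inv, mul_smul, mul_smul, mul_smul, inv_smul_eq_iff.2 (h.fix y b b.2.1).symm,
        u2 b b.2, inv_smul_smul]⟩⟩) fun b c e => Subtype.ext (h.cm_inj (fun e => u1 (inv_smul_eq_iff.1 e).symm)
      b.2.1 c.2.1 (congrArg Subtype.val e))
  rw [h.cardA xy.symm xw] at h1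
  exact u1 ((Subgroup.eq_of_le_of_card_ge inf_le_left h1).ge hu).2

theorem ln_N {x y w : X} {a : G} (ha : a ∈ N x) (e : Ln N x y w) : Ln N x y (a • w) := fun b hb hy => by
  rw [← mul_smul, h.comm x b hb a ha, mul_smul, e b hb hy]

theorem tri {x y : X} {a r : G} (xy : x ≠ y) (ha : a ∈ N x) (ay : a • y = y) (hr : r ∈ N x) (ry : r • y ≠ y) :
    ∃ b ∈ N y, b • x = x ∧ a * b ∈ N (r • y) := by
  let f : (N y ⊓ stabilizer G x : Subgroup G) → (N x ⊓ stabilizer G y : Subgroup G) := fun b =>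
    ⟨r * b * r⁻¹ * b.1⁻¹, Subgroup.mem_inf.2 ⟨h.cmN hr b.2.2, by
      rw [mem_stabilizer_iff, mul_smul, mul_smul, mul_smul, inv_smul_eq_iff.2 (h.fix y b b.2.1).symm,
        h.sym xy.symm (h.ln_N (inv_mem hr) (ln_r x y)) b b.2.1 b.2.2, smul_inv_smul]⟩⟩
  have hf : Function.Injective f := fun b c e => Subtype.ext (h.cm_inj ry b.2.1 c.2.1 (congrArg Subtype.val e))
  obtain ⟨b, hb⟩ := (hf.bijective_of_nat_card_le (h.cardA xy xy.symm).le).2 ⟨a, ha, ay⟩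
  refine ⟨b, b.2.1, b.2.2, ?_⟩
  rw [← show r * b * r⁻¹ * b.1⁻¹ = a from congrArg Subtype.val hb]
  simpa using h.eqv r y b b.2.1

theorem fix_eq {x y z : X} {a b : G} (xy : x ≠ y) (ha : a ∈ N x) (ay : a • y = y) (hb : b ∈ N y) (bx : b • x = x)
    (hz : Ln N x y z) (zy : z ≠ y) (hc : a * b ∈ N z) {q : X} (hq : a • q = q) : b • q = q := by
  by_cases e : Ln N y x q
  · exact e b hb bx
  by_contra ne
  have hz' := h.sym xy.symm hz
  have yq : y ≠ q := fun e' => e (e' ▸ h.ln_l y x)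
  have zq : z ≠ q := fun e' => e (e' ▸ hz')
  have h1 := h.sym yq.symm (h.ln_N hb (ln_r y q))
  have h2 := h.sym zq.symm (h.ln_N hc (ln_r z q))
  rw [h.aa xy ha ay hb bx, mul_smul, hq] at h2
  have h3 : Ln N q y z := (h.repl yq.symm (Ne.symm ne) h1 z).1 ((h.repl zq.symm (Ne.symm ne) h2 z).2 (ln_r q z))
  exact e ((h.repl xy.symm zy.symm hz' q).1 ((h.repl yq zy.symm (h.sym yq h3) q).2 (ln_r y q)))

end ON

/-- Fixed point sets of maximal size. -/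
def Hy (N : X → Subgroup G) (W : Set X) : Prop :=
  (∃ x, ∃ a ∈ N x, a ≠ 1 ∧ W = {q | a • q = q}) ∧ ∀ x, ∀ a ∈ N x, a ≠ 1 → {q : X | a • q = q}.ncard ≤ W.ncard

/-- Elements with centre `y` and axis `W`. -/
def Gam (N : X → Subgroup G) (W : Set X) (y : X) : Subgroup G := N y ⊓ fixingSubgroup G W

theorem mem_Gam {W : Set X} {y : X} {a : G} : a ∈ Gam N W y ↔ a ∈ N y ∧ ∀ q ∈ W, a • q = q :=
  and_congr_right' (mem_fixingSubgroup_iff G)

namespace ON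
variable [Finite G] [Finite X] (h : ON N p)
include h

theorem exists_hy : ∃ W, Hy N W := by
  obtain ⟨x, -, -, a, a1, a2, -⟩ := h.nsr
  obtain ⟨⟨y, b⟩, ⟨b1, b2⟩, hm⟩ := Set.exists_max_image {z : X × G | z.2 ∈ N z.1 ∧ z.2 ≠ 1}
    (fun z => {q : X | z.2 • q = q}.ncard) (Set.toFinite _) ⟨(x, a), a1, a2⟩
  exact ⟨_, ⟨y, b, b1, b2, rfl⟩, fun x a a1 a2 => hm (x, a) ⟨a1, a2⟩⟩

variable {W : Set X} (hW : Hy N W)
include hW

omit h in
theorem gfix {y : X} {b : G} (hb : b ∈ Gam N W y) (b1 : b ≠ 1) {q : X} (e : b • q = q) : q ∈ W :=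
  (Set.eq_of_subset_of_ncard_le (mem_Gam.1 hb).2 (hW.2 y b hb.1 b1)).ge e

theorem exOff : ∃ o, o ∉ W := by
  obtain ⟨x, a, -, a2, rfl⟩ := hW.1
  by_contra hc
  push Not at hc
  exact a2 (h.faith a hc)

theorem two (y : X) : ∃ z ∈ W, z ≠ y := by
  obtain ⟨x, x', e, a, a1, a2, a3⟩ := h.nsr
  have h1 := hW.2 x a a1 a2
  have h2 := Set.ncard_le_ncard (show {x, x'} ⊆ {q : X | a • q = q} by
    rintro _ (rfl | rfl); exacts [h.fix _ a a1, a3])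
  rw [Set.ncard_pair e] at h2
  obtain ⟨u, v, h3, h4, h5⟩ := (Set.one_lt_ncard_iff (s := W)).1 (by omega)
  by_cases e : u = y
  exacts [⟨v, h4, e ▸ h5.symm⟩, ⟨u, h3, e⟩]

theorem tri' {x y : X} {a r : G} (xy : x ≠ y) (hy : y ∈ W) (ha : a ∈ Gam N W x) (a1 : a ≠ 1)
    (hr : r ∈ N x) (ry : r • y ≠ y) : ∃ b ∈ Gam N W y, b ≠ 1 ∧ a * b ∈ Gam N W (r • y) := by
  have ay := (mem_Gam.1 ha).2 y hy
  obtain ⟨b, b1, b2, b3⟩ := h.tri xy ha.1 ay hr ry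
  have b4 : b ∈ fixingSubgroup G W := (mem_fixingSubgroup_iff G).2 fun q hq =>
    h.fix_eq xy ha.1 ay b1 b2 (h.ln_N hr (ln_r x y)) ry b3 ((mem_Gam.1 ha).2 q hq)
  exact ⟨b, ⟨b1, b4⟩, fun e => a1 (h.ti (by simpa [e] using b3) ha.1 (h.ne_of_mem xy hr)), b3, mul_mem ha.2 b4⟩

theorem orb_Gam {y o : X} (ho : o ∉ W) : (orb (Gam N W y) o).ncard = Nat.card (Gam N W y) := by
  have := orb_card (Gam N W y) o
  rwa [show Gam N W y ⊓ stabilizer G o = ⊥ from eq_bot_iff.2 fun g hg => by_contra fun e => ho (gfix hW hg.1 e hg.2),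
    Subgroup.card_bot, mul_one] at this

theorem prod_aux {x y : X} {a : G} (xy : x ≠ y) (hy : y ∈ W) (ha : a ∈ Gam N W x) (a1 : a ≠ 1) :
    Nat.card (Gam N W y) = (orb (N x) y).ncard ∧
      ∀ b ∈ Gam N W y, b ≠ 1 → ∃ r ∈ N x, r • y ≠ y ∧ a * b ∈ Gam N W (r • y) := by
  obtain ⟨o, ho⟩ := h.exOff hW
  have h1 : Nat.card (Gam N W y) ≤ (orb (N x) y).ncard := by
    rw [← h.orb_Gam hW ho, h.cardO xy (show y ≠ o from fun e => ho (e ▸ hy))]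
    exact Set.ncard_le_ncard (by rintro _ ⟨g, hg, rfl⟩; exact ⟨g, hg.1, rfl⟩)
  have h2 : ∀ z ∈ orb (N x) y \ {y}, ∃ b, (b ∈ Gam N W y ∧ b ≠ 1) ∧ a * b ∈ Gam N W z := by
    rintro _ ⟨⟨r, hr, rfl⟩, ry⟩
    obtain ⟨b, b1, b2, b3⟩ := h.tri' hW xy hy ha a1 hr ry
    exact ⟨b, ⟨b1, b2⟩, b3⟩
  choose! f f1 f2 using h2
  have fi : Set.InjOn f (orb (N x) y \ {y}) := fun z hz z' hz' e => by_contra fun ne =>
    a1 (h.ti ha.1 (by
      rw [eq_inv_of_mul_eq_one_left (h.ti (f2 z hz).1 (e ▸ (f2 z' hz').1) ne)]; exact inv_mem (f1 z hz).1.1) xy)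
  have h3 := Set.ncard_diff_singleton_add_one (s := orb (N x) y) (a := y) ⟨1, one_mem _, one_smul _ _⟩
  have h4 := Set.ncard_diff_singleton_add_one (s := (Gam N W y : Set G)) (a := 1) (one_mem _)
  have h5 : (Gam N W y : Set G).ncard = Nat.card (Gam N W y) := rfl
  have hs : f '' (orb (N x) y \ {y}) ⊆ (Gam N W y : Set G) \ {1} := by
    rintro _ ⟨z, hz, rfl⟩; exact f1 z hz
  have h6 := Set.ncard_le_ncard hs
  rw [Set.ncard_image_of_injOn fi] at h6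
  refine ⟨by omega, fun b b1 b2 => ?_⟩
  obtain ⟨_, ⟨⟨r, hr, rfl⟩, ry⟩, rfl⟩ := (Set.eq_of_subset_of_ncard_le hs (by
    rw [Set.ncard_image_of_injOn fi]; omega)).ge (show b ∈ (Gam N W y : Set G) \ {1} from ⟨b1, b2⟩)
  exact ⟨r, hr, ry, f2 _ ⟨⟨r, hr, rfl⟩, ry⟩⟩

theorem exG {y : X} (hy : y ∈ W) : ∃ b ∈ Gam N W y, b ≠ 1 := by
  have k : ∀ x y a, x ≠ y → y ∈ W → a ∈ Gam N W x → a ≠ 1 → ∃ b ∈ Gam N W y, b ≠ 1 := fun x y a xy hy a1 a2 => by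
    obtain ⟨r, hr, ry⟩ := h.mv xy
    obtain ⟨b, b1, b2, -⟩ := h.tri' hW xy hy a1 a2 hr ry
    exact ⟨b, b1, b2⟩
  obtain ⟨x, a, a1, a2, e⟩ := hW.1
  have ha : a ∈ Gam N W x := mem_Gam.2 ⟨a1, fun q hq => by rwa [e] at hq⟩
  by_cases xy : x = y
  exacts [⟨a, xy ▸ ha, a2⟩, k x y a xy hy ha a2]

theorem cardG {y x z : X} (hy : y ∈ W) (e : x ≠ z) : Nat.card (Gam N W y) = (orb (N x) z).ncard := by
  obtain ⟨u, u1, u2⟩ := h.two hW y
  obtain ⟨a, a1, a2⟩ := h.exG hW u1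
  rw [(h.prod_aux hW u2 hy a1 a2).1, h.cardO u2 e]

theorem trG {y o : X} {r : G} (hy : y ∈ W) (ho : o ∉ W) (hr : r ∈ N y) : ∃ g ∈ Gam N W y, g • o = r • o :=
  (Set.eq_of_subset_of_ncard_le (s := orb (Gam N W y) o) (t := orb (N y) o)
    (by rintro _ ⟨g, hg, rfl⟩; exact ⟨g, hg.1, rfl⟩) (by
      rw [h.orb_Gam hW ho, h.cardG hW hy (show y ≠ o from fun e => ho (e ▸ hy))])).ge ⟨r, hr, rfl⟩

theorem lnW {x y w : X} (hx : x ∈ W) (hy : y ∈ W) (e : Ln N x y w) : w ∈ W :=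
  let ⟨a, a1, a2⟩ := h.exG hW hx; gfix hW a1 a2 (e a a1.1 ((mem_Gam.1 a1).2 y hy))

theorem smulW {x y : X} {r : G} (hx : x ∈ W) (hr : r ∈ N x) (hy : y ∈ W) : r • y ∈ W :=
  h.lnW hW hx hy (h.ln_N hr (ln_r x y))

theorem gconj {x y : X} {r b : G} (hx : x ∈ W) (hr : r ∈ N x) (hb : b ∈ Gam N W y) :
    r * b * r⁻¹ ∈ Gam N W (r • y) := mem_Gam.2 ⟨h.eqv r y b hb.1, fun q hq => by
      rw [mul_smul, mul_smul, (mem_Gam.1 hb).2 _ (h.smulW hW hx (inv_mem hr) hq), smul_inv_smul]⟩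

/-- The group of elations with axis `W`. -/
def T : Subgroup G where
  carrier := {g | ∃ y ∈ W, g ∈ Gam N W y}
  one_mem' := let ⟨x, _⟩ := hW.1; let ⟨y, hy, _⟩ := h.two hW x; ⟨y, hy, one_mem _⟩
  inv_mem' := fun ⟨y, hy, e⟩ => ⟨y, hy, inv_mem e⟩
  mul_mem' := by
    rintro a b ⟨x, hx, ha⟩ ⟨y, hy, hb⟩
    by_cases xy : x = y
    · exact ⟨x, hx, mul_mem ha (xy ▸ hb)⟩
    by_cases a1 : a = 1
    · exact ⟨y, hy, by rwa [a1, one_mul]⟩
    by_cases b1 : b = 1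
    · exact ⟨x, hx, by rwa [b1, mul_one]⟩
    obtain ⟨r, hr, -, e⟩ := (h.prod_aux hW xy hy ha a1).2 b hb b1
    exact ⟨_, h.smulW hW hx hr hy, e⟩

theorem Tc {a b : G} (ha : a ∈ h.T hW) (hb : b ∈ h.T hW) : a * b = b * a := by
  obtain ⟨x, hx, ha⟩ := ha
  obtain ⟨y, hy, hb⟩ := hb
  by_cases xy : x = y
  · exact h.comm x a ha.1 b (xy ▸ hb.1)
  · exact h.aa xy ha.1 ((mem_Gam.1 ha).2 y hy) hb.1 ((mem_Gam.1 hb).2 x hx)

theorem Tsemi {a : G} {o : X} (ha : a ∈ h.T hW) (ho : o ∉ W) (e : a • o = o) : a = 1 :=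
  let ⟨_, _, ha⟩ := ha; by_contra fun a1 => ho (gfix hW ha a1 e)

theorem Tconj {x : X} {r t : G} (hx : x ∈ W) (hr : r ∈ N x) (ht : t ∈ h.T hW) : r * t * r⁻¹ ∈ h.T hW :=
  let ⟨_, hy, hb⟩ := ht; ⟨_, h.smulW hW hx hr hy, h.gconj hW hx hr hb⟩

theorem Tfix {t : G} (ht : t ∈ h.T hW) {q : X} (hq : q ∈ W) : t • q = q :=
  let ⟨_, _, hb⟩ := ht; (mem_Gam.1 hb).2 q hq

theorem cmG {x : X} {r t : G} (hx : x ∈ W) (hr : r ∈ N x) (ht : t ∈ h.T hW) : r * t * r⁻¹ * t⁻¹ ∈ Gam N W x :=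
  mem_Gam.2 ⟨h.cmN hr (h.Tfix hW ht hx), fun q hq => h.Tfix hW (mul_mem (h.Tconj hW hx hr ht) (inv_mem ht)) hq⟩

end ON

end Cfsg.Agent.ONan
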